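import Groth.Agent.H14GL.Points
import Mathlib.RingTheory.Smooth.Flat
import Mathlib.AlgebraicGeometry.Morphisms.FinitePresentation
import Mathlib.AlgebraicGeometry.Morphisms.Flat

/-!
# The general linear group over a base is flat, locally of finite presentation and affine
-/

set_option autoImplicit false
set_option linter.unusedVariables false
set_option backward.isDefEq.respectTransparency false
set_option backward.isDefEq.respectTransparency.types false

universe u

open CategoryTheory CategoryTheory.Limits AlgebraicGeometry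

noncomputable section

namespace Groth.Agent.H14GL

theorem smooth_GLn (k : Type u) [CommRing k] (n : ℕ) : Algebra.Smooth k (CoordGrp.GLn n k) := by
  classical
  have h1 : Algebra.FinitePresentation k (CoordGrp.GLn n k) :=
    Algebra.FinitePresentation.quotient (A := MvPolynomial (CoordGrp.GLPoly.Idx n) k) (Submodule.fg_span_singleton _)
  refine ⟨Algebra.FormallySmooth.of_comp_surjective fun B _ _ I hI f => ?_, h1⟩
  choose M hM using fun (p : Fin n × Fin n) => Ideal.Quotient.mk_surjective (f (CoordGrp.GLn.X p.1 p.2))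
  let N : Matrix (Fin n) (Fin n) B := Matrix.of fun i j => M (i, j)
  have hd : Ideal.Quotient.mk I N.det = f CoordGrp.GLn.det := by
    rw [CoordGrp.GLn.det_eq, AlgHom.map_det, RingHom.map_det]
    congr 1
    exact Matrix.ext fun i j => hM (i, j)
  have hu : IsUnit N.det := by
    refine (IsNilpotent.isUnit_quotient_mk_iff (I := I) ⟨2, hI⟩).1 ?_
    rw [hd]
    exact (IsUnit.of_mul_eq_one (CoordGrp.GLn.Dinv : CoordGrp.GLn n k) CoordGrp.GLn.det_mul_Dinv).map f
  refine ⟨CoordGrp.GLn.pt n k N (↑hu.unit⁻¹) hu.mul_val_inv, ?_⟩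
  let φ := (Ideal.Quotient.mkₐ k I).comp (CoordGrp.GLn.pt n k N (↑hu.unit⁻¹) hu.mul_val_inv)
  have hX : ∀ i j, φ (CoordGrp.GLn.X i j) = f (CoordGrp.GLn.X i j) := fun i j => by
    show Ideal.Quotient.mk I (CoordGrp.GLn.pt n k N (↑hu.unit⁻¹) hu.mul_val_inv (CoordGrp.GLn.X i j)) = _
    rw [CoordGrp.GLn.pt_X]
    exact hM (i, j)
  have hdet : φ CoordGrp.GLn.det = f CoordGrp.GLn.det := by
    rw [CoordGrp.GLn.det_eq, AlgHom.map_det, AlgHom.map_det]
    congr 1
    exact Matrix.ext hX
  refine CoordGrp.GLn.algHom_ext hX ?_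
  calc φ CoordGrp.GLn.Dinv = φ CoordGrp.GLn.Dinv * f (CoordGrp.GLn.det * CoordGrp.GLn.Dinv) := by
        rw [CoordGrp.GLn.det_mul_Dinv, map_one, _root_.mul_one]
    _ = φ (CoordGrp.GLn.Dinv * CoordGrp.GLn.det) * f CoordGrp.GLn.Dinv := by rw [map_mul, map_mul, ← hdet]; ring
    _ = f CoordGrp.GLn.Dinv := by rw [CoordGrp.GLn.Dinv_mul_det, map_one, _root_.one_mul]

variable (n : ℕ) (S : Scheme.{u})

theorem flat_GLn : Flat (FrB.GLn n S).hom := by
  refine MorphismProperty.pullback_snd (P := @Flat) _ _ ?_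
  have := smooth_GLn ZU.{u} n
  exact Flat.SpecMap_iff.mpr (RingHom.flat_algebraMap_iff.mpr inferInstance)

theorem lfp_GLn : LocallyOfFinitePresentation (FrB.GLn n S).hom := by
  refine MorphismProperty.pullback_snd (P := @LocallyOfFinitePresentation) _ _ ?_
  have := smooth_GLn ZU.{u} n
  exact (HasRingHomProperty.Spec_iff (P := @LocallyOfFinitePresentation)).mpr
    (RingHom.finitePresentation_algebraMap.mpr inferInstance)

end Groth.Agent.H14GL
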