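import Groth.Agent.H14GL.STRings

/-!
# Functors into `BG` on the punctured two-branched stack extend, for a matrix group
-/

set_option autoImplicit false
set_option linter.unusedVariables false
set_option backward.isDefEq.respectTransparency false
set_option backward.isDefEq.respectTransparency.types false

universe u

open CategoryTheory CategoryTheory.Functor CategoryTheory.Limits MonoidalCategory CartesianMonoidalCategory MonObj GrpObj
open AlgebraicGeometry
open scoped TensorProduct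

noncomputable section

namespace Groth.Agent.H14GL

open H14Fib H14Stk H14AlgSt H14Quot H14Lift

local notation "K₀" => Scheme.fppfPrecoverage

variable {S : Scheme.{u}} {G : Over S} [GrpObj G] {n : ℕ} {R : Type u} [CommRing R] {π : R}
  {h : Spec (CommRingCat.of R) ⟶ S}

/-- The node is invariant. -/
lemma hinv_st : (ThetaS.stAction R π).act.left ⁻¹ᵁ pairOpen (ThetaS.sFn R π) (ThetaS.tFn R π) =
    (snd (ThetaS.Gm R) (ThetaS.STSch R π)).left ⁻¹ᵁ pairOpen (ThetaS.sFn R π) (ThetaS.tFn R π) := by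
  obtain ⟨ξ, hξ, hs, ht⟩ := exists_st_act (R := R) (π := π)
    (A := ThetaS.STRing R π ⊗[R] ThetaS.Lau R) Algebra.TensorProduct.includeLeft Algebra.TensorProduct.includeRight
  rw [pairOpen, Scheme.Hom.preimage_sup, Scheme.Hom.preimage_sup,
    H14Ga.preimage_semiInvariant _ _ ξ hξ ((isUnit_zPow 1).map
      (Algebra.TensorProduct.includeRight : ThetaS.Lau R →ₐ[R] ThetaS.STRing R π ⊗[R] ThetaS.Lau R)) hs,
    H14Ga.preimage_semiInvariant _ _ ξ hξ ((isUnit_zPow (-1)).map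
      (Algebra.TensorProduct.includeRight : ThetaS.Lau R →ₐ[R] ThetaS.STRing R π ⊗[R] ThetaS.Lau R)) ht]

/-- The action of units on points. -/
abbrev stC : GmSMul (ThetaS.stAction R π) := ⟨fun v x => stSMul v x, fun v x => stSMul_act v x⟩

variable [IsDomain R] [IsDiscreteValuationRing R]
  {F : AlgSt.fullSub (ThetaS.overS h (AlgSt.QuotSt K₀ (ThetaS.Gm R) (ThetaS.stAction R π)))
    (Lands (X := CoactBr.sp R (ThetaS.STRing R π)) (pairOpen (ThetaS.sFn R π) (ThetaS.tFn R π))) ⥤ᵇ AlgSt.BG K₀ G}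

lemma landsA_x₁ : LandsA (ThetaS.sFn R π) (ThetaS.tFn R π) (x₁ R π) :=
  landsA_unit R π (Or.inl (by simp [x₁]))

lemma landsA_x₂ : LandsA (ThetaS.sFn R π) (ThetaS.tFn R π) (x₂ R π) :=
  landsA_unit R π (Or.inr (by simp [x₂]))

lemma landsA_s : LandsA (ThetaS.sFn R π) (ThetaS.tFn R π) (IsScalarTower.toAlgHom R (ThetaS.STRing R π) (SA R π)) :=
  landsA_unit R π (Or.inl (IsLocalization.Away.algebraMap_isUnit _))

lemma landsA_t : LandsA (ThetaS.sFn R π) (ThetaS.tFn R π) (IsScalarTower.toAlgHom R (ThetaS.STRing R π) (TA R π)) :=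
  landsA_unit R π (Or.inr (IsLocalization.Away.algebraMap_isUnit _))

/-- Both branches agree at the generic point up to a matrix. -/
theorem exists_overlap (P : MatPts G n) (hπ : Irreducible π)
    (τ₁ : Frame hinv_st F (x₁ R π) landsA_x₁) (τ₂ : Frame hinv_st F (x₂ R π) landsA_x₂)
    (τa : Frame hinv_st F (IsScalarTower.toAlgHom R (ThetaS.STRing R π) (SA R π)) landsA_s)
    (τb : Frame hinv_st F (IsScalarTower.toAlgHom R (ThetaS.STRing R π) (TA R π)) landsA_t)
    (hτa : τa = τ₁.pull stC (Algebra.ofId R (SA R π)) (sU R π) (smul_x₁ R π _ rfl))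
    (hτb : τb = τ₂.pull stC (Algebra.ofId R (TA R π)) (tU R π)⁻¹ (smul_x₂ R π _ (by rw [_root_.inv_inv]; rfl))) :
    ∃ gK : GL (Fin n) (FractionRing R),
      τb.pull stC (hx' := landsA_s.comp (ψs R π)) (ψt R π) 1 ((stC.smul_one _).trans (ψ_comp R π).symm) =
        (τa.pull stC (hx' := landsA_s.comp (ψs R π)) (ψs R π) 1 (stC.smul_one _)).smul P
          (Matrix.GeneralLinearGroup.map (κ₂ hπ).toRingHom gK) := by
  subst hτa hτb
  let ϖK := piK hπ.ne_zero
  let xK : ThetaS.STRing R π →ₐ[R] FractionRing R := (Algebra.ofId R (FractionRing R)).comp (x₁ R π)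
  have hK : LandsA (ThetaS.sFn R π) (ThetaS.tFn R π) xK := landsA_x₁.comp _
  have h2 : stC.smul ϖK⁻¹ ((Algebra.ofId R (FractionRing R)).comp (x₂ R π)) = xK :=
    smul_x₂ R π _ (by simp [xK, x₁, ϖK, piK, Algebra.ofId_apply])
  have hk : stC.smul (sU₂ R π) ((κ₂ hπ).comp xK) = (ψs R π).comp (IsScalarTower.toAlgHom R _ (SA R π)) := by
    rw [show (κ₂ hπ).comp xK = (Algebra.ofId R (STA R π)).comp (x₁ R π) by
      rw [← AlgHom.comp_assoc]; exact congrArg (fun k => AlgHom.comp k (x₁ R π)) (Subsingleton.elim _ _)]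
    exact smul_x₁ R π _ rfl
  obtain ⟨gK, hγ⟩ := (τ₁.pull stC (hx' := hK) (Algebra.ofId R _) 1 (stC.smul_one _)).exists_smul P
    (τ₂.pull stC (hx' := hK) (Algebra.ofId R _) ϖK⁻¹ h2)
  refine ⟨gK, ?_⟩
  have e := congrArg (fun τ => Frame.pull stC (hx' := landsA_s.comp (ψs R π)) (κ₂ hπ) (sU₂ R π) hk τ) hγ
  rw [Frame.pull_smul] at e
  have hr₁ : stC.smul (sU₂ R π) ((Algebra.ofId R (STA R π)).comp (x₁ R π)) =
      (ψs R π).comp (IsScalarTower.toAlgHom R _ (SA R π)) := smul_x₁ R π _ rfl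
  have hr₂ : stC.smul (tU₂ R π)⁻¹ ((Algebra.ofId R (STA R π)).comp (x₂ R π)) =
      (ψs R π).comp (IsScalarTower.toAlgHom R _ (SA R π)) :=
    smul_x₂ R π _ (by rw [_root_.inv_inv]; rfl)
  have h1 : (τ₂.pull stC (hx' := hK) (Algebra.ofId R _) ϖK⁻¹ h2).pull stC
      (hx' := landsA_s.comp (ψs R π)) (κ₂ hπ) (sU₂ R π) hk = τ₂.pull stC (Algebra.ofId R _) (tU₂ R π)⁻¹ hr₂ :=
    Frame.pull_pull stC _ _ _ _ _ _ _ _ _ (Subsingleton.elim _ _) (by
      rw [_root_.map_inv, map_piK, _root_.mul_inv, ← _root_.mul_assoc, _root_.mul_inv_cancel, _root_.one_mul]) τ₂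
  have h3 : (τ₁.pull stC (hx' := hK) (Algebra.ofId R _) 1 (stC.smul_one _)).pull stC
      (hx' := landsA_s.comp (ψs R π)) (κ₂ hπ) (sU₂ R π) hk = τ₁.pull stC (Algebra.ofId R _) (sU₂ R π) hr₁ :=
    Frame.pull_pull stC _ _ _ _ _ _ _ _ _ (Subsingleton.elim _ _) (by rw [map_one, _root_.mul_one]) τ₁
  rw [h1, h3] at e
  rw [Frame.pull_pull stC _ _ _ _ _ _ _ _ hr₂ (Subsingleton.elim _ _) (by rw [_root_.map_inv, map_tU, _root_.one_mul]) τ₂,
    Frame.pull_pull stC _ _ _ _ _ _ _ _ hr₁ (Subsingleton.elim _ _) (by rw [_root_.one_mul]; rfl) τ₁]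
  exact e

/-- A functor into `BG` on the punctured two-branched stack is trivial over the punctured curve. -/
theorem triv_st (P : MatPts G n) (hπ : Irreducible π) :
    ∃ τ : trivTors (G := G) ((Over.map h).obj (H13AlgSp.openOver (CoactBr.sp R (ThetaS.STRing R π))
        (pairOpen (ThetaS.sFn R π) (ThetaS.tFn R π)))) ⟶ F.obj ⟨_, lands_openIncl hinv_st⟩,
      (AlgSt.BG K₀ G).p.IsHomLift (𝟙 ((Over.map h).obj (H13AlgSp.openOver (CoactBr.sp R (ThetaS.STRing R π))
        (pairOpen (ThetaS.sFn R π) (ThetaS.tFn R π))))) τ := by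
  obtain ⟨τ₁⟩ := exists_frame (F := F) (hinv := hinv_st) P (x₁ R π) landsA_x₁
  obtain ⟨τ₂⟩ := exists_frame (F := F) (hinv := hinv_st) P (x₂ R π) landsA_x₂
  let τs : Frame hinv_st F (IsScalarTower.toAlgHom R (ThetaS.STRing R π) (SA R π)) landsA_s :=
    τ₁.pull stC (Algebra.ofId R (SA R π)) (sU R π) (smul_x₁ R π _ rfl)
  let τt : Frame hinv_st F (IsScalarTower.toAlgHom R (ThetaS.STRing R π) (TA R π)) landsA_t :=
    τ₂.pull stC (Algebra.ofId R (TA R π)) (tU R π)⁻¹ (smul_x₂ R π _ (by rw [_root_.inv_inv]; rfl))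
  obtain ⟨gK, hγ⟩ := exists_overlap P hπ τ₁ τ₂ τs τt rfl rfl
  obtain ⟨U, V, k, hk⟩ := exists_smith (K := FractionRing R) hπ (piK hπ.ne_zero) rfl gK
  let gt : GL (Fin n) (TA R π) := diagU (fun i => tU R π ^ (-k i)) *
    Matrix.GeneralLinearGroup.map (algebraMap R (TA R π)) U⁻¹
  let gs : GL (Fin n) (SA R π) := diagU (fun i => sU R π ^ k i) * Matrix.GeneralLinearGroup.map (algebraMap R (SA R π)) V
  refine exists_triv_of_away stC (ψs R π) rfl (ψt R π) (ψ_comp R π) landsA_s landsA_t (landsA_s.comp (ψs R π))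
    (τs.smul P gs) (τt.smul P gt) ?_
  rw [Frame.pull_smul, Frame.pull_smul, hγ, Frame.smul_smul]
  congr 1
  have c₁ : (κ₂ hπ).toRingHom.comp (algebraMap R (FractionRing R)) = algebraMap R (STA R π) :=
    (κ₂ hπ).comp_algebraMap
  have c₂ : (ψt R π).toRingHom.comp (algebraMap R (TA R π)) = algebraMap R (STA R π) := (ψt R π).comp_algebraMap
  have c₃ : (ψs R π).toRingHom.comp (algebraMap R (SA R π)) = algebraMap R (STA R π) := (ψs R π).comp_algebraMap
  rw [hk, map_mul, map_mul, map_mul, map_mul, gl_map_map _ _ _ c₁,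
    gl_map_map _ _ _ c₁, gl_map_map _ _ _ c₂,
    gl_map_map _ _ _ c₃, map_diagU, map_diagU, map_diagU]
  simp only [← _root_.mul_assoc]
  rw [_root_.map_inv, _root_.inv_mul_cancel_right, ← map_mul]
  congr 2
  funext i
  simp only [Pi.mul_apply, map_zpow]
  change _ = Units.map (ψt R π : TA R π →* STA R π) (tU R π) ^ (-k i) *
    Units.map (κ₂ hπ : FractionRing R →* STA R π) (piK hπ.ne_zero) ^ k i
  rw [map_tU, map_piK, zpow_neg, mul_zpow, mul_comm (sU₂ R π ^ k i), _root_.inv_mul_cancel_left]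
  rfl

end Groth.Agent.H14GL
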