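import Groth.Agent.H14GL.Theta
import Groth.Agent.H14GL.ST
import Groth.Agent.H14GL.Props

/-!
# The classifying stack of the general linear group is Θ-complete and S-complete
-/

set_option autoImplicit false
set_option linter.unusedVariables false
set_option backward.isDefEq.respectTransparency false
set_option backward.isDefEq.respectTransparency.types false

universe u

open CategoryTheory CategoryTheory.Functor CategoryTheory.Limits MonoidalCategory CartesianMonoidalCategory MonObj GrpObj
open AlgebraicGeometry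
open scoped TensorProduct Polynomial

noncomputable section

namespace Groth.Agent.H14GL

open H14Fib H14Stk H14AlgSt H14Quot H14Lift

local notation "K₀" => Scheme.fppfPrecoverage

variable {S : Scheme.{u}} {G : Over S} [GrpObj G] {n : ℕ}

/-- Classifying stacks of matrix groups are Θ-complete. -/
theorem thetaComplete_BG (P : MatPts G n) (hG : IsAffineHom G.hom) (hGf : Flat G.hom)
    (hGp : LocallyOfFinitePresentation G.hom) : ThetaS.IsThetaComplete K₀ (AlgSt.BG K₀ G) := by
  intro R _ _ _ ϖ hϖ h sq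
  refine ⟨?_, ?_⟩
  · have hQ : (ThetaS.MissesOrigin (K := K₀) ϖ) =
        Lands (X := ThetaS.Line R) (pairOpen (Polynomial.X : R[X]) (Polynomial.C ϖ)) := by
      funext A
      exact propext (preimage_pairOpen_eq_top A.φ.left _ _).symm
    have key : LiftSq.Lifts (ThetaS.thetaIncl K₀ R ϖ h) (FibCat.toSelf (AlgSt.BG K₀ G)) := by
      change LiftSq.Lifts (AlgSt.subIncl (ThetaS.Theta K₀ R h) (ThetaS.MissesOrigin ϖ)) _
      rw [hQ]
      exact lifts_BG hinv_line (regular_line hϖ.ne_zero) hG fun F => triv_theta P hϖ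
    exact key sq
  · exact liftsUnique_of_diag quotSt_fibGrpd selfOver_fibGrpd
      (liftsUniquely_theta hϖ.ne_zero h (FibCat.diag (FibCat.toSelf (AlgSt.BG K₀ G))) quotSt_fibGrpd
        (fp_fibGrpd quotSt_fibGrpd quotSt_fibGrpd selfOver_fibGrpd) (repWith_diag_BG hG hGf hGp)) sq

/-- Classifying stacks of matrix groups are S-complete. -/
theorem sComplete_BG (P : MatPts G n) (hG : IsAffineHom G.hom) (hGf : Flat G.hom)
    (hGp : LocallyOfFinitePresentation G.hom) : ThetaS.IsSCompleteOver K₀ (AlgSt.BG K₀ G) := by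
  intro R _ _ _ π hπ h sq
  refine ⟨?_, ?_⟩
  · have hQ : (ThetaS.MissesNode (K := K₀) : (ThetaS.STR K₀ R π).obj → Prop) =
        Lands (X := ThetaS.STSch R π) (pairOpen (ThetaS.sFn R π) (ThetaS.tFn R π)) := by
      funext A
      exact propext (preimage_pairOpen_eq_top A.φ.left _ _).symm
    have key : LiftSq.Lifts (ThetaS.stIncl K₀ R π h) (FibCat.toSelf (AlgSt.BG K₀ G)) := by
      change LiftSq.Lifts (AlgSt.subIncl (ThetaS.ST K₀ R π h) ThetaS.MissesNode) _
      rw [hQ]
      exact lifts_BG hinv_st (regular_st hπ.ne_zero) hG fun F => triv_st P hπ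
    exact key sq
  · exact liftsUnique_of_diag quotSt_fibGrpd selfOver_fibGrpd
      (liftsUniquely_st hπ.ne_zero h (FibCat.diag (FibCat.toSelf (AlgSt.BG K₀ G))) quotSt_fibGrpd
        (fp_fibGrpd quotSt_fibGrpd quotSt_fibGrpd selfOver_fibGrpd) (repWith_diag_BG hG hGf hGp)) sq

theorem thetaComplete_BGLn (hG : IsAffineHom (FrB.GLn n S).hom) :
    ThetaS.IsThetaComplete K₀ (AlgSt.BG K₀ (FrB.GLn n S)) :=
  thetaComplete_BG (glnPts n S) hG (flat_GLn n S) (lfp_GLn n S)

theorem sComplete_BGLn (hG : IsAffineHom (FrB.GLn n S).hom) :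
    ThetaS.IsSCompleteOver K₀ (AlgSt.BG K₀ (FrB.GLn n S)) :=
  sComplete_BG (glnPts n S) hG (flat_GLn n S) (lfp_GLn n S)

end Groth.Agent.H14GL
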