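import Mathlib.RingTheory.Flat.Equalizer
import Mathlib.RingTheory.Flat.TorsionFree
import Mathlib.RingTheory.RingHom.FaithfullyFlat
import Mathlib.LinearAlgebra.FreeModule.PID
import Mathlib.RingTheory.TensorProduct.Pi
import Mathlib.LinearAlgebra.Matrix.GeneralLinearGroup.Defs
import Mathlib

/-!
# Matrix cocycles of a faithfully flat extension of a principal ideal domain split
-/

set_option autoImplicit false
set_option linter.unusedVariables false

universe u

open TensorProduct Matrix

noncomputable section

namespace Groth.Agent.H14GL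

variable (A C : Type u) [CommRing A] [CommRing C] [Algebra A C]

/-- The first factor. -/
abbrev inl' : C →ₐ[A] C ⊗[A] C := Algebra.TensorProduct.includeLeft

/-- The second factor. -/
abbrev inr' : C →ₐ[A] C ⊗[A] C := Algebra.TensorProduct.includeRight

/-- The factors one and two. -/
abbrev i12 : C ⊗[A] C →ₐ[A] C ⊗[A] (C ⊗[A] C) := Algebra.TensorProduct.map (AlgHom.id A C) (inl' A C)

/-- The factors one and three. -/
abbrev i13 : C ⊗[A] C →ₐ[A] C ⊗[A] (C ⊗[A] C) := Algebra.TensorProduct.map (AlgHom.id A C) (inr' A C)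

/-- The factors two and three. -/
abbrev i23 : C ⊗[A] C →ₐ[A] C ⊗[A] (C ⊗[A] C) := Algebra.TensorProduct.includeRight

variable {A C}

lemma map_mulVec' {R R' : Type u} [CommRing R] [CommRing R'] {n : ℕ} (f : R →+* R') (M : Matrix (Fin n) (Fin n) R)
    (v : Fin n → R) : f ∘ (M *ᵥ v) = M.map f *ᵥ (f ∘ v) :=
  funext fun i => RingHom.map_mulVec f M v i

/-- A matrix cocycle on a faithfully flat extension of a principal ideal domain is split. -/
theorem exists_cocycle_split [IsDomain A] [IsPrincipalIdealRing A] [Module.FaithfullyFlat A C] {n : ℕ}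
    (g : GL (Fin n) (C ⊗[A] C))
    (hg : GeneralLinearGroup.map (i12 A C).toRingHom g * GeneralLinearGroup.map (i23 A C).toRingHom g =
      GeneralLinearGroup.map (i13 A C).toRingHom g) :
    ∃ h : GL (Fin n) C, GeneralLinearGroup.map (inl' A C).toRingHom h =
      g * GeneralLinearGroup.map (inr' A C).toRingHom h := by
  classical
  have : Nontrivial C := (FaithfulSMul.algebraMap_injective A C).nontrivial
  let δ : (Fin n → C) →ₗ[A] (Fin n → C ⊗[A] C) :=
    (LinearMap.compLeft (inl' A C).toLinearMap (Fin n)) -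
      ((Matrix.mulVecLin (g : Matrix (Fin n) (Fin n) (C ⊗[A] C))).restrictScalars A).comp
        (LinearMap.compLeft (inr' A C).toLinearMap (Fin n))
  have hδ : ∀ v, δ v = inl' A C ∘ v - (g : Matrix (Fin n) (Fin n) _) *ᵥ (inr' A C ∘ v) := fun v => rfl
  let M := LinearMap.ker δ
  have hM : ∀ v : M, inl' A C ∘ (v : Fin n → C) = (g : Matrix (Fin n) (Fin n) _) *ᵥ (inr' A C ∘ (v : Fin n → C)) :=
    fun v => sub_eq_zero.mp ((hδ _).symm.trans v.2)
  let e := TensorProduct.piRight A A C (fun _ : Fin n => C)
  let e' := TensorProduct.piRight A A C (fun _ : Fin n => C ⊗[A] C)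
  have he : ∀ (c : C) (v : Fin n → C), e (c ⊗ₜ v) = fun i => c ⊗ₜ v i := fun c v => TensorProduct.piRight_apply ..
  have he' : ∀ (c : C) (v : Fin n → C ⊗[A] C), e' (c ⊗ₜ v) = fun i => c ⊗ₜ v i := fun c v =>
    TensorProduct.piRight_apply ..
  have hlin : ∀ z, e' (δ.lTensor C z) = i12 A C ∘ (e z) -
      ((g : Matrix (Fin n) (Fin n) _).map (i23 A C)) *ᵥ (i13 A C ∘ (e z)) := by
    intro z
    induction z using TensorProduct.induction_on with
    | zero => simp
    | add z z' h h' =>
      rw [map_add, map_add, map_add, h, h']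
      have : ∀ (f : C ⊗[A] C →ₐ[A] C ⊗[A] (C ⊗[A] C)) (a b : Fin n → C ⊗[A] C), f ∘ (a + b) = f ∘ a + f ∘ b :=
        fun f a b => funext fun i => map_add f _ _
      rw [this, this, mulVec_add]
      abel
    | tmul c v =>
      rw [LinearMap.lTensor_tmul, he', he, hδ]
      funext i
      simp only [Pi.sub_apply, Function.comp_apply, mulVec, dotProduct, Matrix.map_apply, TensorProduct.tmul_sub,
        TensorProduct.tmul_sum, Algebra.TensorProduct.map_tmul, AlgHom.coe_id, id_eq,
        Algebra.TensorProduct.includeRight_apply, Algebra.TensorProduct.tmul_mul_tmul, _root_.one_mul]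
  let β := M.subtype.liftBaseChange C
  have hβ : ∀ y, inl' A C ∘ β y = (g : Matrix (Fin n) (Fin n) _) *ᵥ e (M.subtype.lTensor C y) := by
    intro y
    induction y using TensorProduct.induction_on with
    | zero =>
      simp only [map_zero, mulVec_zero]
      exact funext fun i => map_zero (inl' A C)
    | add y y' h h' =>
      rw [map_add, map_add, map_add, mulVec_add, ← h, ← h']
      exact funext fun i => map_add (inl' A C) _ _
    | tmul c v =>
      rw [LinearMap.liftBaseChange_tmul, LinearMap.lTensor_tmul, he]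
      have e1 : (fun i => c ⊗ₜ[A] (v : Fin n → C) i) = inl' A C c • (inr' A C ∘ (v : Fin n → C)) := funext fun i => by
        simp
      change _ = _ *ᵥ (fun i => c ⊗ₜ[A] (v : Fin n → C) i)
      rw [e1, mulVec_smul, ← hM]
      exact funext fun i => map_mul (inl' A C) _ _
  have linj : Function.Injective (inl' A C) :=
    Algebra.TensorProduct.includeLeft_injective (FaithfulSMul.algebraMap_injective A C)
  have hsub : Function.Injective (M.subtype.lTensor C) :=
    Module.Flat.lTensor_preserves_injective_linearMap _ M.injective_subtype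
  have hunit : ∀ w : Fin n → C ⊗[A] C, (g⁻¹ : GL (Fin n) _).val *ᵥ (g.val *ᵥ w) = w := fun w => by
    rw [mulVec_mulVec, Units.inv_mul, one_mulVec]
  have βinj : Function.Injective β := (injective_iff_map_eq_zero _).2 fun y hy => by
    refine hsub ((map_zero (M.subtype.lTensor C)).symm ▸ e.injective ?_)
    have := hβ y
    rw [hy] at this
    rw [map_zero, ← hunit (e _), ← this]
    exact (congrArg _ (funext fun i => map_zero (inl' A C))).trans (mulVec_zero _)
  have βsurj : Function.Surjective β := fun c => by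
    let w := (g⁻¹ : GL (Fin n) _).val *ᵥ (inl' A C ∘ c)
    have hz : δ.lTensor C (e.symm w) = 0 := by
      refine e'.injective ?_
      rw [map_zero, hlin, LinearEquiv.apply_symm_apply]
      simp only [w]
      have h1 := map_mulVec' (i12 A C).toRingHom (g⁻¹ : GL (Fin n) _).val (inl' A C ∘ c)
      have h2 := map_mulVec' (i13 A C).toRingHom (g⁻¹ : GL (Fin n) _).val (inl' A C ∘ c)
      simp only [AlgHom.toRingHom_eq_coe, RingHom.coe_coe] at h1 h2
      rw [h1, h2]
      have h3 : i13 A C ∘ (inl' A C ∘ c) = i12 A C ∘ (inl' A C ∘ c) := funext fun i => by simp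
      rw [h3, mulVec_mulVec, sub_eq_zero]
      congr 1
      have h4 : (GeneralLinearGroup.map (i12 A C).toRingHom g)⁻¹ =
          GeneralLinearGroup.map (i23 A C).toRingHom g * (GeneralLinearGroup.map (i13 A C).toRingHom g)⁻¹ := by
        rw [← hg]
        group
      rw [← map_inv, ← map_inv] at h4
      exact congrArg Units.val h4
    obtain ⟨y, hy⟩ := (Module.Flat.lTensor_exact C δ.exact_subtype_ker_map (e.symm w)).1 hz
    suffices h0 : inl' A C ∘ β y = inl' A C ∘ c from ⟨y, funext fun i => linj (congrFun h0 i)⟩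
    refine (hβ y).trans ?_
    rw [hy, LinearEquiv.apply_symm_apply]
    simp only [w, mulVec_mulVec, Units.mul_inv, one_mulVec]
  let βe := LinearEquiv.ofBijective β ⟨βinj, βsurj⟩
  have : Module.Finite C (C ⊗[A] M) := Module.Finite.equiv βe.symm
  have : Module.Finite A M := Module.Finite.of_finite_tensorProduct_of_faithfullyFlat C
  have : Module.Free A M := inferInstance
  let b := Module.Free.chooseBasis A M
  let b₁ := (Algebra.TensorProduct.basis C b).map βe
  let σ := b₁.indexEquiv (Pi.basisFun C (Fin n))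
  let b₂ := b₁.reindex σ
  let m := (Pi.basisFun C (Fin n)).toMatrix b₂
  have hm : m * b₂.toMatrix (Pi.basisFun C (Fin n)) = 1 := Module.Basis.toMatrix_mul_toMatrix_flip _ _
  have hm' : b₂.toMatrix (Pi.basisFun C (Fin n)) * m = 1 := Module.Basis.toMatrix_mul_toMatrix_flip _ _
  refine ⟨⟨m, b₂.toMatrix (Pi.basisFun C (Fin n)), hm, hm'⟩, Units.ext (Matrix.ext fun i k => ?_)⟩
  have hcol : b₂ k = ((b (σ.symm k) : M) : Fin n → C) := by
    simp [b₂, b₁, βe, β]
  have := congrFun (hM (b (σ.symm k))) i
  rw [← hcol] at this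
  exact this

end Groth.Agent.H14GL
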