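import Groth.Agent.H14GL.QuotExtend
import Groth.Agent.H14Quot.Torsor
import Mathlib.AlgebraicGeometry.Morphisms.Flat

/-!
# Maps to an affine group scheme extend from the locus of a regular pair
-/

set_option autoImplicit false
set_option linter.unusedVariables false
set_option backward.isDefEq.respectTransparency false
set_option backward.isDefEq.respectTransparency.types false

universe u

open CategoryTheory CategoryTheory.Limits MonoidalCategory CartesianMonoidalCategory MonObj GrpObj
open AlgebraicGeometry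

noncomputable section

namespace Groth.Agent.H14GL

open H14Lift H14Quot

variable {S : Scheme.{u}} {R B : Type u} [CommRing R] [CommRing B] [Algebra R B]
  (h : Spec (CommRingCat.of R) ⟶ S) {a b : B}

/-- Maps to an affine scheme over the base extend uniquely from the locus of a regular pair pulled back along a flat map. -/
theorem bijective_restrict (hab : RingTheory.Sequence.IsWeaklyRegular B [a, b]) {G : Over S}
    (hG : IsAffineHom G.hom) {T : Over (Spec (CommRingCat.of R))} [IsAffine T.left] (p : T ⟶ CoactBr.sp R B)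
    [Flat p.left] :
    Function.Bijective (fun m : (Over.map h).obj T ⟶ G =>
      (Over.map h).map (H13AlgSp.openIncl T (p.left ⁻¹ᵁ pairOpen a b)) ≫ m) := by
  let V : T.left.Opens := p.left ⁻¹ᵁ pairOpen a b
  have hbij : Function.Bijective (T.left.presheaf.map (homOfLE (le_top : V ≤ ⊤)).op).hom := by
    have : IsAffine (CoactBr.sp R B).left := inferInstanceAs (IsAffine (Spec _))
    have hfl : ((Scheme.ΓSpecIso (CommRingCat.of B)).inv ≫ p.left.appTop).hom.Flat := by
      have h1 : p.left.appTop.hom.Flat := HasRingHomProperty.appTop @Flat p.left inferInstance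
      exact RingHom.Flat.comp (RingHom.Flat.of_bijective
        ((Scheme.ΓSpecIso (CommRingCat.of B)).symm.commRingCatIsoToRingEquiv.bijective)) h1
    algebraize [((Scheme.ΓSpecIso (CommRingCat.of B)).inv ≫ p.left.appTop).hom]
    have h2 := RingTheory.Sequence.IsWeaklyRegular.of_flat (S := Γ(T.left, ⊤)) hab
    simp only [List.map_cons, List.map_nil] at h2
    have e : V = T.left.basicOpen (algebraMap B Γ(T.left, ⊤) a) ⊔ T.left.basicOpen (algebraMap B Γ(T.left, ⊤) b) := by
      simp only [V, pairOpen, Scheme.Hom.preimage_sup]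
      erw [Scheme.preimage_basicOpen_top, Scheme.preimage_basicOpen_top]
      rfl
    have h3 := bijective_res_of_pair _ _ h2
    revert h3
    rw [← e]
    exact id
  have hiso : IsIso V.ι.appTop := by
    have : V.ι.appTop = T.left.presheaf.map (homOfLE (le_top : V ≤ ⊤)).op ≫ V.topIso.inv := by
      rw [Scheme.Opens.ι_appTop, Scheme.Opens.topIso_inv, ← Functor.map_comp]
      rfl
    rw [this]
    have : IsIso (T.left.presheaf.map (homOfLE (le_top : V ≤ ⊤)).op) := (ConcreteCategory.isIso_iff_bijective _).2 hbij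
    infer_instance
  have : IsAffineHom G.hom := hG
  have : IsAffine (pullback G.hom (T.hom ≫ h)) := isAffine_of_isAffineHom (pullback.snd G.hom (T.hom ≫ h))
  have key : ∀ (s : (Over.map h).obj (H13AlgSp.openOver T V) ⟶ G), ∃! m : (Over.map h).obj T ⟶ G,
      (Over.map h).map (H13AlgSp.openIncl T V) ≫ m = s := fun s => by
    have hs : s.left ≫ G.hom = V.ι ≫ T.hom ≫ h := by
      have := Over.w s
      exact this.trans (Category.assoc _ _ _)
    obtain ⟨v, hv, huv⟩ := existsUnique_affine_extend V.ι (pullback.lift s.left V.ι hs)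
    have hv2 : v ≫ pullback.snd _ _ = 𝟙 T.left := (existsUnique_affine_extend V.ι V.ι).unique
      (by rw [← Category.assoc, hv, pullback.lift_snd]) (Category.comp_id _)
    let m : (Over.map h).obj T ⟶ G := Over.homMk (v ≫ pullback.fst _ _) (by
      change (v ≫ pullback.fst _ _) ≫ G.hom = T.hom ≫ h
      rw [Category.assoc, pullback.condition, ← Category.assoc, hv2, Category.id_comp])
    refine ⟨m, Over.OverMorphism.ext ?_, fun m' hm' => ?_⟩
    · change V.ι ≫ v ≫ pullback.fst _ _ = s.left
      rw [← Category.assoc, hv, pullback.lift_fst]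
    · have hw : m'.left ≫ G.hom = 𝟙 _ ≫ T.hom ≫ h := (Over.w m').trans (Category.id_comp _).symm
      have := huv (pullback.lift m'.left (𝟙 _) hw) (by
        refine pullback.hom_ext ?_ ?_
        · rw [Category.assoc, pullback.lift_fst, pullback.lift_fst]
          exact congrArg (fun k => Over.Hom.left k) hm'
        · rw [Category.assoc, pullback.lift_snd, pullback.lift_snd]
          exact Category.comp_id _)
      refine Over.OverMorphism.ext ?_
      change m'.left = v ≫ pullback.fst _ _
      rw [← this, pullback.lift_fst]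
  exact ⟨fun m m' e => (key _).unique e rfl, fun s => (key s).exists⟩

variable (R) in
theorem flat_gm : Flat (ThetaS.Gm R).hom :=
  Flat.SpecMap_iff.mpr (RingHom.flat_algebraMap_iff.mpr inferInstance)

/-- Both extension properties needed to extend functors into a classifying stack. -/
theorem extension_props (aX : AlgGrp.Action (ThetaS.Gm R) (CoactBr.sp R B))
    (hab : RingTheory.Sequence.IsWeaklyRegular B [a, b]) {G : Over S} (hG : IsAffineHom G.hom) :
    Function.Bijective (fun m : (Over.map h).obj (ThetaS.Gm R ⊗ CoactBr.sp R B) ⟶ G =>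
      (Over.map h).map (H13AlgSp.openIncl (ThetaS.Gm R ⊗ CoactBr.sp R B)
        ((snd (ThetaS.Gm R) (CoactBr.sp R B)).left ⁻¹ᵁ pairOpen a b)) ≫ m) ∧
    Function.Injective (fun m : (Over.map h).obj (ThetaS.Gm R ⊗ (ThetaS.Gm R ⊗ CoactBr.sp R B)) ⟶ G =>
      (Over.map h).map (H13AlgSp.openIncl (ThetaS.Gm R ⊗ (ThetaS.Gm R ⊗ CoactBr.sp R B))
        ((snd (ThetaS.Gm R) (ThetaS.Gm R ⊗ CoactBr.sp R B) ≫ snd (ThetaS.Gm R) (CoactBr.sp R B)).left ⁻¹ᵁ
          pairOpen a b)) ≫ m) := by
  have : IsAffine (ThetaS.Gm R).left := inferInstanceAs (IsAffine (Spec _))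
  have : IsAffine (CoactBr.sp R B).left := inferInstanceAs (IsAffine (Spec _))
  have : IsAffine (ThetaS.Gm R ⊗ CoactBr.sp R B).left :=
    inferInstanceAs (IsAffine (pullback (ThetaS.Gm R).hom (CoactBr.sp R B).hom))
  have : IsAffine (ThetaS.Gm R ⊗ (ThetaS.Gm R ⊗ CoactBr.sp R B)).left :=
    inferInstanceAs (IsAffine (pullback (ThetaS.Gm R).hom (ThetaS.Gm R ⊗ CoactBr.sp R B).hom))
  have h1 : Flat (snd (ThetaS.Gm R) (CoactBr.sp R B)).left := snd_left_of @Flat _ (flat_gm R)
  have h2 : Flat (snd (ThetaS.Gm R) (ThetaS.Gm R ⊗ CoactBr.sp R B)).left := snd_left_of @Flat _ (flat_gm R)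
  have h3 : Flat (snd (ThetaS.Gm R) (ThetaS.Gm R ⊗ CoactBr.sp R B) ≫ snd (ThetaS.Gm R) (CoactBr.sp R B)).left :=
    MorphismProperty.comp_mem @Flat _ _ h2 h1
  exact ⟨bijective_restrict h hab hG _, (bijective_restrict h hab hG _).1⟩

end Groth.Agent.H14GL
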