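import Mathlib.LinearAlgebra.FreeModule.PID
import Mathlib.LinearAlgebra.Dimension.Constructions
import Mathlib.LinearAlgebra.Matrix.GeneralLinearGroup.Defs
import Mathlib.RingTheory.Localization.FractionRing
import Mathlib

/-!
# A lattice has a basis adapted to a flag of the ambient vector space
-/

set_option autoImplicit false
set_option linter.unusedVariables false

universe u

open Matrix

noncomputable section

namespace Groth.Agent.H14GL

variable {R K : Type u} [CommRing R] [IsDomain R] [IsPrincipalIdealRing R] [Field K] [Algebra R K]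
  [IsFractionRing R K] {n : ℕ}

variable (R K n) in
/-- The inclusion of the standard lattice. -/
def latIncl : (Fin n → R) →ₗ[R] (Fin n → K) := (Algebra.linearMap R K).compLeft (Fin n)

/-- The lattice points of a subspace. -/
def latPts (W : Submodule K (Fin n → K)) : Submodule R (Fin n → R) := (W.restrictScalars R).comap (latIncl R K n)

lemma mem_latPts_of_smul {W : Submodule K (Fin n → K)} {r : R} (hr : r ≠ 0) {v : Fin n → R}
    (h : r • v ∈ latPts (R := R) W) : v ∈ latPts (R := R) W := by
  change latIncl R K n (r • v) ∈ W at h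
  rw [map_smul, ← algebraMap_smul K r (latIncl R K n v)] at h
  exact (Submodule.smul_mem_iff W (by simpa using hr)).1 h

lemma exists_smul_mem_latPts (W : Submodule K (Fin n → K)) {v : Fin n → K} (hv : v ∈ W) :
    ∃ (r : R) (w : Fin n → R), r ≠ 0 ∧ w ∈ latPts (R := R) W ∧ latIncl R K n w = algebraMap R K r • v := by
  obtain ⟨⟨r, hr⟩, hint⟩ := IsLocalization.exist_integer_multiples (nonZeroDivisors R) (Finset.univ : Finset (Fin n)) v
  choose w hw using fun i => hint i (Finset.mem_univ i)
  have e : latIncl R K n w = algebraMap R K r • v := funext fun i => by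
    simpa [latIncl, Algebra.smul_def] using hw i
  refine ⟨r, w, nonZeroDivisors.ne_zero hr, ?_, e⟩
  change latIncl R K n w ∈ W
  rw [e]
  exact W.smul_mem _ hv

variable (F : ℕ → Submodule K (Fin n → K))

lemma exists_flag_basis_aux (hF : Monotone F) (h0 : F 0 = ⊥) (m : ℕ) :
    ∃ (ι' : Type u) (_ : Fintype ι') (b : Module.Basis ι' R (latPts (R := R) (F m))) (k : ι' → ℕ),
      (∀ i, (b i : Fin n → R) ∈ latPts (R := R) (F (k i))) ∧ (∀ i, k i ≤ m) ∧
      ∀ j ≤ m, latPts (R := R) (F j) ≤ Submodule.span R ((fun i => (b i : Fin n → R)) '' {i | k i ≤ j}) := by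
  classical
  induction m with
  | zero =>
    have hbot : latPts (R := R) (F 0) = ⊥ := by
      rw [eq_bot_iff]
      intro v hv
      change latIncl R K n v ∈ F 0 at hv
      rw [h0, Submodule.mem_bot] at hv
      exact funext fun i => IsFractionRing.injective R K ((congrFun hv i).trans (map_zero _).symm)
    have : Subsingleton (latPts (R := R) (F 0)) := by rw [hbot]; infer_instance
    refine ⟨PEmpty, inferInstance, Module.Basis.empty _, fun i => i.elim, fun i => i.elim, fun i => i.elim,
      fun j hj => ?_⟩
    obtain rfl := Nat.le_zero.1 hj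
    intro v hv
    rw [hbot, Submodule.mem_bot] at hv
    rw [hv]
    exact zero_mem _
  | succ m ih =>
    obtain ⟨ι', _, b, k, hb, hkm, hspan⟩ := ih
    let V := latPts (R := R) (F (m + 1))
    let W₀ := latPts (R := R) (F m)
    have hle : W₀ ≤ V := fun v hv => hF (Nat.le_succ m) hv
    let W : Submodule R V := W₀.comap V.subtype
    let bW : Module.Basis ι' R W := b.map (Submodule.comapSubtypeEquivOfLe hle).symm
    have : Module.IsTorsionFree R (V ⧸ W) := ⟨fun r hr x y hxy => by
      obtain ⟨x, rfl⟩ := Submodule.Quotient.mk_surjective W x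
      obtain ⟨y, rfl⟩ := Submodule.Quotient.mk_surjective W y
      have h1 : r • (x - y) ∈ W := by
        rw [smul_sub]
        exact (Submodule.Quotient.eq W).1 hxy
      exact (Submodule.Quotient.eq W).2 (mem_latPts_of_smul hr.ne_zero h1)⟩
    let bQ := Module.Free.chooseBasis R (V ⧸ W)
    let b' := Module.Basis.sumQuot bW bQ
    let k' : ι' ⊕ _ → ℕ := Sum.elim k (fun _ : Module.Free.ChooseBasisIndex R (V ⧸ W) => m + 1)
    have hinl : ∀ i, (b' (Sum.inl i) : Fin n → R) = (b i : Fin n → R) := fun i => by
      rw [show b' (Sum.inl i) = ((bW i : W) : V) from Module.Basis.sumQuot_inl bW bQ i]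
      rfl
    refine ⟨_, inferInstance, b', k', fun i => ?_, fun i => ?_, fun j hj => ?_⟩
    · cases i with
      | inl i => rw [hinl]; exact hb i
      | inr i => exact (b' (Sum.inr i)).2
    · cases i with
      | inl i => exact le_trans (hkm i) (Nat.le_succ m)
      | inr i => exact le_refl (m + 1)
    · rcases Nat.of_le_succ hj with hj | rfl
      · refine (hspan j hj).trans (Submodule.span_mono ?_)
        rintro _ ⟨i, hi, rfl⟩
        exact ⟨Sum.inl i, hi, hinl i⟩
      · intro v hv
        have h1 := Submodule.mem_map_of_mem (f := V.subtype) (show (⟨v, hv⟩ : V) ∈ Submodule.span R (Set.range b') by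
          rw [b'.span_eq]; trivial)
        rw [Submodule.map_span, ← Set.range_comp] at h1
        refine Submodule.span_mono ?_ h1
        rintro _ ⟨i, rfl⟩
        refine ⟨i, ?_, rfl⟩
        change k' i ≤ m + 1
        cases i with
        | inl i => exact le_trans (hkm i) (Nat.le_succ m)
        | inr i => exact le_refl (m + 1)

/-- The rows of an integral matrix in the vector space. -/
def rowK (M : Matrix (Fin n) (Fin n) R) (l : Fin n) : Fin n → K := latIncl R K n (M l)

/-- A lattice has a basis adapted to a flag. -/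
theorem exists_flag_basis (hF : Monotone F) (h0 : F 0 = ⊥) {N : ℕ} (hN : F N = ⊤) :
    ∃ (E : GL (Fin n) R) (k : Fin n → ℕ), (∀ l, rowK (K := K) E.val l ∈ F (k l)) ∧
      ∀ j, F j ≤ Submodule.span K (rowK (K := K) E.val '' {l | k l ≤ j}) := by
  classical
  obtain ⟨ι', _, b, k, hb, hkm, hspan⟩ := exists_flag_basis_aux (R := R) F hF h0 N
  have htop : latPts (R := R) (F N) = ⊤ := eq_top_iff.2 fun v _ => by
    change latIncl R K n v ∈ F N
    rw [hN]; trivial
  let b₁ : Module.Basis ι' R (Fin n → R) := b.map (LinearEquiv.ofTop _ htop)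
  let σ := b₁.indexEquiv (Pi.basisFun R (Fin n))
  let b₂ := b₁.reindex σ
  let M : Matrix (Fin n) (Fin n) R := Matrix.of fun l i => b₂ l i
  have hM : IsUnit M := by
    have e : M = ((Pi.basisFun R (Fin n)).toMatrix b₂)ᵀ := by
      ext l i
      simp [M, Module.Basis.toMatrix_apply]
    rw [e, Matrix.isUnit_transpose]
    exact ⟨⟨_, _, Module.Basis.toMatrix_mul_toMatrix_flip _ _, Module.Basis.toMatrix_mul_toMatrix_flip _ _⟩, rfl⟩
  refine ⟨hM.unit, k ∘ σ.symm, fun l => ?_, fun j v hv => ?_⟩
  · have hl : hM.unit.val l = (b (σ.symm l) : Fin n → R) := by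
      funext c
      simp [M, b₂, b₁]
    change latIncl R K n (hM.unit.val l) ∈ _
    rw [hl]
    exact hb (σ.symm l)
  · obtain ⟨r, w, hr, hw, e⟩ := exists_smul_mem_latPts (R := R) (F j) hv
    have h1 : w ∈ Submodule.span R ((fun l => M l) '' {l | k (σ.symm l) ≤ j}) := by
      have h2 : w ∈ Submodule.span R ((fun i => (b i : Fin n → R)) '' {i | k i ≤ j}) := by
        rcases le_total j N with hj | hj
        · exact hspan j hj hw
        · refine Submodule.span_mono (Set.image_mono fun i hi => le_trans hi hj) (hspan N le_rfl ?_)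
          rw [htop]; trivial
      refine Submodule.span_mono ?_ h2
      rintro _ ⟨i, hi, rfl⟩
      exact ⟨σ i, by simpa using hi, by funext c; simp [M, b₂, b₁]⟩
    have h3 := Submodule.mem_map_of_mem (f := latIncl R K n) h1
    rw [Submodule.map_span, ← Set.image_comp, e] at h3
    have h4 := Submodule.span_le_restrictScalars R K _ h3
    exact (Submodule.smul_mem_iff _ (by simpa using hr)).1 h4

end Groth.Agent.H14GL
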