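import Groth.Agent.H14Lift.ThetaAffine

/-!
# Units as points of the multiplicative group
-/

set_option autoImplicit false
set_option linter.unusedVariables false
set_option backward.isDefEq.respectTransparency false
set_option backward.isDefEq.respectTransparency.types false

universe u

open CategoryTheory MonoidalCategory CartesianMonoidalCategory MonObj GrpObj AlgebraicGeometry
open scoped TensorProduct Polynomial

noncomputable section

namespace Groth.Agent.H14GL

variable {R A A' : Type u} [CommRing R] [CommRing A] [Algebra R A] [CommRing A'] [Algebra R A']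

/-- The point of the multiplicative group given by a unit. -/
def gmPt (v : Aˣ) : ThetaS.Lau R →ₐ[R] A :=
  MonoidAlgebra.lift R A (Multiplicative ℤ) ((Units.coeHom A).comp (zpowersHom Aˣ v))

lemma gmPt_zPow (v : Aˣ) (k : ℤ) : gmPt (R := R) v (ThetaS.zPow R k) = ((v ^ k : Aˣ) : A) := by
  simp [gmPt, ThetaS.zPow]

lemma lauHom_ext {f g : ThetaS.Lau R →ₐ[R] A} (h : ∀ k : ℤ, f (ThetaS.zPow R k) = g (ThetaS.zPow R k)) : f = g := by
  ext m <;> exact h _

lemma comp_gmPt (ψ : A →ₐ[R] A') (v : Aˣ) : ψ.comp (gmPt v) = gmPt (Units.map (ψ : A →* A') v) :=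
  lauHom_ext fun k => by
    rw [AlgHom.comp_apply, gmPt_zPow, gmPt_zPow, ← map_zpow]
    rfl

lemma pt_gmPt_mul (v w : Aˣ) :
    CoactBr.pt (gmPt (R := R) (v * w)) = CoactBr.pt (gmPt v) * CoactBr.pt (gmPt w) := by
  rw [CoactBr.pt_mul_pt]
  refine congrArg CoactBr.pt (lauHom_ext fun k => ?_)
  rw [AlgHom.comp_apply, Bialgebra.comulAlgHom_apply, ThetaS.comul_zPow, Algebra.TensorProduct.lift_tmul,
    gmPt_zPow, gmPt_zPow, gmPt_zPow, mul_zpow, Units.val_mul]

lemma pt_gmPt_one : CoactBr.pt (gmPt (R := R) (1 : Aˣ)) = 1 := by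
  rw [CoactBr.one_eq_pt]
  refine congrArg CoactBr.pt (lauHom_ext fun k => ?_)
  simp [gmPt_zPow]

/-- The scaling action on points. -/
def lineSMul (v : Aˣ) (x : R[X] →ₐ[R] A) : R[X] →ₐ[R] A := ThetaS.linePt ((v : A) * x Polynomial.X)

lemma lineSMul_act (v : Aˣ) (x : R[X] →ₐ[R] A) :
    lift (CoactBr.pt (gmPt v)) (CoactBr.pt x) ≫ (ThetaS.lineAction R).act = CoactBr.pt (lineSMul v x) := by
  have hx : x = ThetaS.linePt (x Polynomial.X) := Polynomial.algHom_ext (by simp)
  refine ((congrArg (fun q => lift (CoactBr.pt (gmPt v)) (CoactBr.pt q) ≫ (ThetaS.lineAction R).act) hx).trans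
    (ThetaS.lineAction_pt _ _)).trans ?_
  rw [gmPt_zPow, zpow_one]
  rfl

/-- The action on the two-branched curve on points. -/
def stSMul {π : R} (v : Aˣ) (x : ThetaS.STRing R π →ₐ[R] A) : ThetaS.STRing R π →ₐ[R] A :=
  ThetaS.stPt ((v : A) * x (ThetaS.sFn R π)) (((v⁻¹ : Aˣ) : A) * x (ThetaS.tFn R π)) (by
    rw [_root_.mul_mul_mul_comm, Units.mul_inv, _root_.one_mul, ← map_mul, ThetaS.sFn_mul_tFn, AlgHom.commutes])

lemma stSMul_act {π : R} (v : Aˣ) (x : ThetaS.STRing R π →ₐ[R] A) :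
    lift (CoactBr.pt (gmPt v)) (CoactBr.pt x) ≫ (ThetaS.stAction R π).act = CoactBr.pt (stSMul v x) := by
  have hab : x (ThetaS.sFn R π) * x (ThetaS.tFn R π) = algebraMap R A π := by
    rw [← map_mul, ThetaS.sFn_mul_tFn, AlgHom.commutes]
  have hx : x = ThetaS.stPt _ _ hab :=
    ThetaS.stRing_algHom_ext (ThetaS.stPt_sFn _ _ hab).symm (ThetaS.stPt_tFn _ _ hab).symm
  refine ((congrArg (fun q => lift (CoactBr.pt (gmPt v)) (CoactBr.pt q) ≫ (ThetaS.stAction R π).act) hx).trans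
    (ThetaS.stAction_pt _ _ _ hab)).trans (congrArg CoactBr.pt ?_)
  refine ThetaS.stRing_algHom_ext ?_ ?_
  · rw [stSMul, ThetaS.stPt_sFn, ThetaS.stPt_sFn, gmPt_zPow, zpow_one]
  · rw [stSMul, ThetaS.stPt_tFn, ThetaS.stPt_tFn, gmPt_zPow, zpow_neg, zpow_one]

end Groth.Agent.H14GL
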