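import Groth.Agent.H14GL.Points
import Groth.Agent.H14GL.Descent
import Groth.Agent.H14Quot.Torsor
import Groth.Agent.H14Quot.AffineDescent
import Groth.Prelude.Def_ChGrp
import Mathlib.AlgebraicGeometry.Sites.Fpqc

/-!
# Torsors under the general linear group over principal ideal domains are trivial
-/

set_option autoImplicit false
set_option linter.unusedVariables false
set_option backward.isDefEq.respectTransparency false
set_option backward.isDefEq.respectTransparency.types false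

universe u

open CategoryTheory CategoryTheory.Limits MonoidalCategory CartesianMonoidalCategory MonObj GrpObj
open AlgebraicGeometry AlgSt
open scoped TensorProduct

noncomputable section

namespace Groth.Agent.H14GL

open H14Quot H14AlgSt

variable {S : Scheme.{u}}

local notation "K₀" => Scheme.fppfPrecoverage

section Torsor

variable {G : Over S} [GrpObj G] {X : Over S} {aX : AlgGrp.Action G X}

/-- Over an affine base a torsor has a section over a faithfully flat affine scheme. -/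
theorem exists_affine_section (A : QuotObj K₀ G aX) [IsAffine A.base.left] :
    ∃ (Y : Over S) (d : Y ⟶ A.base) (s : Y ⟶ A.P),
      IsAffine Y.left ∧ Flat d.left ∧ Surjective d.left ∧ s ≫ A.π = d := by
  obtain ⟨R, hR, hs⟩ := A.loc
  obtain ⟨κ, Z, g, rfl⟩ := Presieve.exists_eq_ofArrows R
  have hR' : Presieve.ofArrows Z g ∈ Scheme.fppfPrecoverage.coverings A.base.left := hR
  obtain ⟨hcov, hmor⟩ := (Scheme.ofArrows_mem_precoverage_iff _).1 hR' 
  let C : κ → Over S := fun i => Over.mk (g i ≫ A.base.hom)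
  let c : ∀ i, C i ⟶ A.base := fun i => Over.homMk (g i) rfl
  obtain ⟨m, W, d, hW, hfl, hfp, hsur, hfac⟩ := exists_finite_affine_refinement c (fun i => (hmor i).1)
    (fun i => (hmor i).2) (fun z => by obtain ⟨i, hi⟩ := hcov z; exact ⟨i, hi⟩)
  have hsec : ∀ j, ∃ s : W j ⟶ A.P, s ≫ A.π = d j := fun j => by
    obtain ⟨i, l, hl⟩ := hfac j
    obtain ⟨σ, hσ⟩ := hs (g i) ⟨i⟩
    change σ ≫ A.π.left = g i at hσ
    let σ' : C i ⟶ A.P := Over.homMk σ (by
      change σ ≫ A.P.hom = g i ≫ A.base.hom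
      rw [← hσ, Category.assoc, Over.w A.π])
    refine ⟨l ≫ σ', ?_⟩
    rw [Category.assoc, ← hl]
    congr 1
    exact Over.OverMorphism.ext hσ
  choose s hs' using hsec
  let Y : Over S := Over.mk (Sigma.desc fun j => (W j).hom)
  let dY : Y ⟶ A.base := Over.homMk (Sigma.desc fun j => (d j).left) (Sigma.hom_ext _ _ fun j => by simp [Y])
  let sY : Y ⟶ A.P := Over.homMk (Sigma.desc fun j => (s j).left) (Sigma.hom_ext _ _ fun j => by simp [Y])
  have : ∀ j, IsAffine (W j).left := hW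
  refine ⟨Y, dY, sY, inferInstanceAs (IsAffine (∐ fun j => (W j).left)),
    IsZariskiLocalAtSource.sigmaDesc (P := @Flat) hfl, ⟨fun z => ?_⟩,
    Over.OverMorphism.ext (Sigma.hom_ext _ _ fun j => ?_)⟩
  · obtain ⟨j, w, hw⟩ := hsur z
    refine ⟨Sigma.ι (fun j => (W j).left) j w, ?_⟩
    exact (congrArg (fun k : (W j).left ⟶ A.base.left => k w) (Sigma.ι_desc (fun j => (d j).left) j)).trans hw
  · change Sigma.ι (fun j => (W j).left) j ≫ Sigma.desc (fun j => (s j).left) ≫ A.π.left =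
      Sigma.ι (fun j => (W j).left) j ≫ Sigma.desc (fun j => (d j).left)
    rw [Sigma.ι_desc_assoc, Sigma.ι_desc, ← Over.comp_left, hs']

/-- The group acts freely on a torsor. -/
lemma act_free (A : QuotObj K₀ G aX) {T : Over S} {a b : T ⟶ G} {x : T ⟶ A.P}
    (h : lift a x ≫ A.act.act = lift b x ≫ A.act.act) : a = b := by
  have : lift a x = lift b x := A.cart.hom_ext h (by rw [lift_snd, lift_snd])
  simpa using congrArg (· ≫ fst G A.P) this

lemma act_π (A : QuotObj K₀ G aX) {T : Over S} (a : T ⟶ G) (x : T ⟶ A.P) :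
    (lift a x ≫ A.act.act) ≫ A.π = x ≫ A.π := by
  rw [Category.assoc, A.cart.w, lift_snd_assoc]

/-- Two points in one fibre differ by a point of the group. -/
lemma exists_elt (A : QuotObj K₀ G aX) {T : Over S} {x y : T ⟶ A.P} (h : x ≫ A.π = y ≫ A.π) :
    ∃ g : T ⟶ G, lift g y ≫ A.act.act = x := by
  obtain ⟨k, hk₁, hk₂⟩ := A.cart.exists_lift x y h
  refine ⟨k ≫ fst _ _, ?_⟩
  have : lift (k ≫ fst G A.P) y = k := by
    apply CartesianMonoidalCategory.hom_ext
    · rw [lift_fst]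
    · rw [lift_snd, hk₂]
  rw [this, hk₁]

/-- The functions of a morphism from a spectrum to an affine scheme. -/
lemma appTop_specMap_isoSpec {Y : Scheme.{u}} [IsAffine Y] {B : CommRingCat.{u}} (φ : Γ(Y, ⊤) ⟶ B) :
    (Spec.map φ ≫ Y.isoSpec.inv).appTop ≫ (Scheme.ΓSpecIso B).hom = φ := by
  have h : Y.isoSpec.inv.appTop = (Scheme.ΓSpecIso Γ(Y, ⊤)).inv := by
    have h1 : Y.isoSpec.inv.appTop ≫ Y.isoSpec.hom.appTop = 𝟙 _ := by
      rw [← Scheme.Hom.comp_appTop, Iso.hom_inv_id]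
      rfl
    rw [Scheme.isoSpec_hom, Scheme.toSpecΓ_appTop] at h1
    rw [← cancel_mono (Scheme.ΓSpecIso Γ(Y, ⊤)).hom, h1, Iso.inv_hom_id]
  rw [Scheme.Hom.comp_appTop, h, Category.assoc, Scheme.ΓSpecIso_naturality, Iso.inv_hom_id_assoc]

/-- A torsor under a group with matrix points over a principal ideal domain has a section. -/
theorem exists_section {n : ℕ} (P : MatPts G n) (A : QuotObj K₀ G aX) [IsAffine A.base.left]
    [IsDomain Γ(A.base.left, ⊤)] [IsPrincipalIdealRing Γ(A.base.left, ⊤)] :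
    ∃ σ : A.base ⟶ A.P, σ ≫ A.π = 𝟙 _ := by
  obtain ⟨Y, d, s, hY, hfl, hsur, hs⟩ := exists_affine_section A
  let A₀ : Type u := Γ(A.base.left, ⊤)
  let C : Type u := Γ(Y.left, ⊤)
  algebraize [d.left.appTop.hom]
  have : Module.FaithfullyFlat Γ(A.base.left, ⊤) Γ(Y.left, ⊤) :=
    (Flat.flat_and_surjective_iff_faithfullyFlat_of_isAffine d.left).1 ⟨hfl, hsur⟩
  let e := Y.left.isoSpec.inv
  let Z₂ : Over S := Over.mk ((Spec.map (CommRingCat.ofHom (inl' A₀ C).toRingHom) ≫ e) ≫ Y.hom)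
  have hd : ∀ {B : Type u} [CommRing B] (φ ψ : C →+* B), φ.comp (algebraMap A₀ C) = ψ.comp (algebraMap A₀ C) →
      (Spec.map (CommRingCat.ofHom φ) ≫ e) ≫ d.left = (Spec.map (CommRingCat.ofHom ψ) ≫ e) ≫ d.left := by
    intro B _ φ ψ hφ
    have hn : e ≫ d.left = Spec.map d.left.appTop ≫ A.base.left.isoSpec.inv :=
      (Scheme.isoSpec_inv_naturality d.left).symm
    rw [Category.assoc, Category.assoc, hn, ← Spec.map_comp_assoc, ← Spec.map_comp_assoc]
    congr 2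
    exact CommRingCat.hom_ext hφ
  have hc : (inl' A₀ C).toRingHom.comp (algebraMap A₀ C) = (inr' A₀ C).toRingHom.comp (algebraMap A₀ C) :=
    RingHom.ext fun a => ((inl' A₀ C).commutes a).trans ((inr' A₀ C).commutes a).symm
  let q₁ : Z₂ ⟶ Y := Over.homMk (Spec.map (CommRingCat.ofHom (inl' A₀ C).toRingHom) ≫ e) rfl
  let q₂ : Z₂ ⟶ Y := Over.homMk (Spec.map (CommRingCat.ofHom (inr' A₀ C).toRingHom) ≫ e) (by
    change _ = (Spec.map (CommRingCat.ofHom (inl' A₀ C).toRingHom) ≫ e) ≫ Y.hom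
    rw [← Over.w d, ← Category.assoc, ← Category.assoc, hd _ _ hc.symm])
  have hq : q₁ ≫ d = q₂ ≫ d := Over.OverMorphism.ext (hd _ _ hc)
  obtain ⟨g, hg⟩ := exists_elt A (x := q₁ ≫ s) (y := q₂ ≫ s) (by
    rw [Category.assoc, Category.assoc, hs, hq])
  let gm : GL (Fin n) (C ⊗[A₀] C) := Matrix.GeneralLinearGroup.map (Scheme.ΓSpecIso _).hom.hom (P.mat g)
  let Z₃ : Over S := Over.mk (Spec.map (CommRingCat.ofHom (i12 A₀ C).toRingHom) ≫ Z₂.hom)
  have hinl : ∀ {B : Type u} [CommRing B] [Algebra A₀ B] (φ : C ⊗[A₀] C →ₐ[A₀] B),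
      (Spec.map (CommRingCat.ofHom φ.toRingHom) ≫ q₁.left) =
        Spec.map (CommRingCat.ofHom (φ.comp (inl' A₀ C)).toRingHom) ≫ e := fun φ => by
    change _ ≫ Spec.map _ ≫ e = _
    rw [← Spec.map_comp_assoc]
    rfl
  have hinr : ∀ {B : Type u} [CommRing B] [Algebra A₀ B] (φ : C ⊗[A₀] C →ₐ[A₀] B),
      (Spec.map (CommRingCat.ofHom φ.toRingHom) ≫ q₂.left) =
        Spec.map (CommRingCat.ofHom (φ.comp (inr' A₀ C)).toRingHom) ≫ e := fun φ => by
    change _ ≫ Spec.map _ ≫ e = _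
    rw [← Spec.map_comp_assoc]
    rfl
  have hZ : ∀ {B : Type u} [CommRing B] [Algebra A₀ B] (φ ψ : C →ₐ[A₀] B),
      (Spec.map (CommRingCat.ofHom φ.toRingHom) ≫ e) ≫ Y.hom =
        (Spec.map (CommRingCat.ofHom ψ.toRingHom) ≫ e) ≫ Y.hom := fun φ ψ => by
    rw [← Over.w d, ← Category.assoc, ← Category.assoc, hd φ.toRingHom ψ.toRingHom
      (RingHom.ext fun a => (φ.commutes a).trans (ψ.commutes a).symm)]
  have hw : ∀ φ : C ⊗[A₀] C →ₐ[A₀] C ⊗[A₀] (C ⊗[A₀] C),
      Spec.map (CommRingCat.ofHom φ.toRingHom) ≫ Z₂.hom = Z₃.hom := fun φ => by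
    change _ ≫ q₁.left ≫ Y.hom = Spec.map _ ≫ q₁.left ≫ Y.hom
    rw [← Category.assoc, ← Category.assoc, hinl, hinl, hZ]
  let r : (C ⊗[A₀] C →ₐ[A₀] C ⊗[A₀] (C ⊗[A₀] C)) → (Z₃ ⟶ Z₂) := fun φ =>
    Over.homMk (Spec.map (CommRingCat.ofHom φ.toRingHom)) (hw φ)
  have e₁ : r (i12 A₀ C) ≫ q₁ = r (i13 A₀ C) ≫ q₁ := Over.OverMorphism.ext (by
    refine (hinl (i12 A₀ C)).trans (Eq.trans ?_ (hinl (i13 A₀ C)).symm)
    congr 4)
  have e₂ : r (i12 A₀ C) ≫ q₂ = r (i23 A₀ C) ≫ q₁ := Over.OverMorphism.ext (by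
    refine (hinr (i12 A₀ C)).trans (Eq.trans ?_ (hinl (i23 A₀ C)).symm)
    congr 4)
  have e₃ : r (i13 A₀ C) ≫ q₂ = r (i23 A₀ C) ≫ q₂ := Over.OverMorphism.ext (by
    refine (hinr (i13 A₀ C)).trans (Eq.trans ?_ (hinr (i23 A₀ C)).symm)
    congr 4)
  have hpull : ∀ φ, lift (r φ ≫ g) (r φ ≫ q₂ ≫ s) ≫ A.act.act = r φ ≫ q₁ ≫ s := fun φ => by
    rw [← comp_lift_assoc, hg]
  have hcoc : (r (i12 A₀ C) ≫ g) * (r (i23 A₀ C) ≫ g) = r (i13 A₀ C) ≫ g := by
    refine act_free A (x := r (i23 A₀ C) ≫ q₂ ≫ s) ?_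
    rw [AlgGrp.Action.lift_mul_act, hpull, ← Category.assoc, ← e₂, Category.assoc, hpull,
      ← Category.assoc, e₁, Category.assoc, ← hpull (i13 A₀ C), ← Category.assoc (r (i13 A₀ C)), e₃, Category.assoc]
  have hrmat : ∀ φ, Matrix.GeneralLinearGroup.map (Scheme.ΓSpecIso _).hom.hom (P.mat (r φ ≫ g)) =
      Matrix.GeneralLinearGroup.map φ.toRingHom gm := fun φ => by
    rw [P.nat]
    refine Units.ext (Matrix.ext fun i j => ?_)
    exact congrArg (fun k => k.hom ((P.mat g).val i j)) (Scheme.ΓSpecIso_naturality (CommRingCat.ofHom φ.toRingHom))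
  obtain ⟨h, hh⟩ := exists_cocycle_split (A := A₀) (C := C) gm (by
    rw [← hrmat, ← hrmat, ← hrmat, ← map_mul, ← P.mul, hcoc])
  let H : Y ⟶ G := P.point h
  have hH : ∀ (φ : C →ₐ[A₀] C ⊗[A₀] C) (q : Z₂ ⟶ Y), q.left = Spec.map (CommRingCat.ofHom φ.toRingHom) ≫ e →
      Matrix.GeneralLinearGroup.map (Scheme.ΓSpecIso _).hom.hom (P.mat (q ≫ H)) =
        Matrix.GeneralLinearGroup.map φ.toRingHom h := fun φ q hqφ => by
    rw [P.nat, P.mat_point]
    refine Units.ext (Matrix.ext fun i j => ?_)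
    change ((q.left).appTop ≫ (Scheme.ΓSpecIso _).hom).hom (h.val i j) = φ.toRingHom (h.val i j)
    rw [hqφ]
    exact congrArg (fun k => k.hom (h.val i j))
      (appTop_specMap_isoSpec (B := CommRingCat.of (C ⊗[A₀] C)) (CommRingCat.ofHom φ.toRingHom))
  have hHg : q₁ ≫ H = g * (q₂ ≫ H) := by
    suffices key : Matrix.GeneralLinearGroup.map (Scheme.ΓSpecIso _).hom.hom (P.mat (q₁ ≫ H)) =
        Matrix.GeneralLinearGroup.map (Scheme.ΓSpecIso _).hom.hom (P.mat (g * (q₂ ≫ H))) from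
      P.ext (Units.ext (Matrix.ext fun i j =>
        (Scheme.ΓSpecIso (CommRingCat.of (C ⊗[A₀] C))).commRingCatIsoToRingEquiv.injective
          (congrArg (fun k : Matrix (Fin n) (Fin n) (C ⊗[A₀] C) => k i j) (congrArg Units.val key))))
    change Matrix.GeneralLinearGroup.map (Scheme.ΓSpecIso _).hom.hom _ =
      Matrix.GeneralLinearGroup.map (Scheme.ΓSpecIso _).hom.hom _
    rw [P.mul, map_mul]
    exact (hH (inl' A₀ C) q₁ rfl).trans (hh.trans (congrArg (gm * ·) (hH (inr' A₀ C) q₂ rfl).symm))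
  let t : Y ⟶ A.P := lift H⁻¹ s ≫ A.act.act
  have ht : q₁ ≫ t = q₂ ≫ t := by
    simp only [t]
    rw [comp_lift_assoc, comp_lift_assoc, GrpObj.comp_inv, GrpObj.comp_inv, hHg, ← hg,
      ← AlgGrp.Action.lift_mul_act, _root_.mul_inv_rev, inv_mul_cancel_right]
  have sq : IsPullback q₁.left q₂.left d.left d.left := by
    have h1 := isPullback_SpecMap_of_isPushout _ _ _ _ (CommRingCat.isPushout_tensorProduct A₀ C C)
    refine h1.of_iso (Iso.refl _) Y.left.isoSpec.symm Y.left.isoSpec.symm A.base.left.isoSpec.symm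
      (Category.id_comp _).symm (Category.id_comp _).symm ?_ ?_ <;>
    · exact (Scheme.isoSpec_inv_naturality d.left)
  have hdesc : ∀ {W : Scheme.{u}} (g₁ g₂ : W ⟶ Y.left), g₁ ≫ d.left = g₂ ≫ d.left → g₁ ≫ t.left = g₂ ≫ t.left :=
    fun g₁ g₂ he => by
    obtain ⟨k, hk₁, hk₂⟩ := sq.exists_lift g₁ g₂ he
    rw [← hk₁, ← hk₂, Category.assoc, Category.assoc, ← Over.comp_left, ← Over.comp_left, ht]
  have : EffectiveEpi d.left := inferInstance
  let σ := EffectiveEpi.desc d.left t.left hdesc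
  have hσ : d.left ≫ σ = t.left := EffectiveEpi.fac d.left t.left hdesc
  let σ' : A.base ⟶ A.P := Over.homMk σ (by
    rw [← cancel_epi d.left, ← Category.assoc, hσ, Over.w, Over.w])
  refine ⟨σ', Over.OverMorphism.ext ?_⟩
  rw [← cancel_epi d.left]
  change d.left ≫ σ ≫ A.π.left = d.left ≫ 𝟙 _
  rw [reassoc_of% hσ, ← Over.comp_left, act_π, hs, Category.comp_id]

end Torsor

end Groth.Agent.H14GL
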