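import Groth.Agent.H14GL.QuotExtend
import Groth.Agent.H14GL.TorsorTrivial
import Groth.Agent.H14GL.GmPts

/-!
# Trivialisations of a functor into `BG` on affine test points of a quotient by the multiplicative group

The trivialisations (frames) over a ring-valued point form a torsor under invertible matrices over the ring, and
frames on two basic opens which agree on the overlap glue to a trivialisation on their union.
-/

set_option autoImplicit false
set_option linter.unusedVariables false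
set_option backward.isDefEq.respectTransparency false
set_option backward.isDefEq.respectTransparency.types false

universe u

open CategoryTheory CategoryTheory.Functor CategoryTheory.Limits MonoidalCategory CartesianMonoidalCategory MonObj GrpObj
open AlgebraicGeometry
open scoped TensorProduct

noncomputable section

namespace Groth.Agent.H14GL

open H14Fib H14Stk H14AlgSt H14Quot H14Lift

local notation "K₀" => Scheme.fppfPrecoverage

/-- The action on points of an action of the multiplicative group. -/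
structure GmSMul {R B : Type u} [CommRing R] [CommRing B] [Algebra R B]
    (aX : AlgGrp.Action (ThetaS.Gm R) (CoactBr.sp R B)) where
  /-- the action on points -/
  smul : ∀ {A : Type u} [CommRing A] [Algebra R A], Aˣ → (B →ₐ[R] A) → (B →ₐ[R] A)
  act : ∀ {A : Type u} [CommRing A] [Algebra R A] (v : Aˣ) (x : B →ₐ[R] A),
    lift (CoactBr.pt (gmPt v)) (CoactBr.pt x) ≫ aX.act = CoactBr.pt (smul v x)

/-- Invertible matrices over a ring as matrices of functions on its spectrum. -/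
abbrev toΓ {A : Type u} [CommRing A] {n : ℕ} : GL (Fin n) A →* GL (Fin n) Γ(Spec (CommRingCat.of A), ⊤) :=
  Matrix.GeneralLinearGroup.map (Scheme.ΓSpecIso (CommRingCat.of A)).inv.hom

variable {S : Scheme.{u}} {R B : Type u} [CommRing R] [CommRing B] [Algebra R B]
  {h : Spec (CommRingCat.of R) ⟶ S} {aX : AlgGrp.Action (ThetaS.Gm R) (CoactBr.sp R B)} {a b : B}
  {G : Over S} [GrpObj G] {n : ℕ}

variable (a b) in
/-- A point lands in the union of the loci where the two functions are invertible. -/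
def LandsA {A : Type u} [CommRing A] [Algebra R A] (x : B →ₐ[R] A) : Prop := Ideal.span {x a, x b} = ⊤

lemma LandsA.comp {A A' : Type u} [CommRing A] [Algebra R A] [CommRing A'] [Algebra R A'] {x : B →ₐ[R] A}
    (hx : LandsA a b x) (ψ : A →ₐ[R] A') : LandsA a b (ψ.comp x) := by
  have := congrArg (Ideal.map ψ.toRingHom) hx
  rw [Ideal.map_span, Ideal.map_top, Set.image_pair] at this
  exact this

lemma pairOpen_eq_top {A : Type u} [CommRing A] {c d : A} (hcd : Ideal.span {c, d} = ⊤) : pairOpen c d = ⊤ := by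
  obtain ⟨u₁, u₂, he⟩ := Ideal.mem_span_pair.1 (hcd.ge (trivial : (1 : A) ∈ (⊤ : Ideal A)))
  refine top_unique fun p _ => ?_
  rw [pairOpen, basicOpen_eq_of_affine', basicOpen_eq_of_affine']
  let q : PrimeSpectrum A := p
  by_contra hp
  have hc : c ∈ q.asIdeal := by
    by_contra hc
    have : p ∈ PrimeSpectrum.basicOpen c := hc
    exact hp (Or.inl (by simpa [Iso.inv_hom_id_apply] using this))
  have hd : d ∈ q.asIdeal := by
    by_contra hd
    have : p ∈ PrimeSpectrum.basicOpen d := hd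
    exact hp (Or.inr (by simpa [Iso.inv_hom_id_apply] using this))
  refine q.2.ne_top ((Ideal.eq_top_iff_one _).2 ?_)
  have := q.asIdeal.add_mem (q.asIdeal.mul_mem_left u₁ hc) (q.asIdeal.mul_mem_left u₂ hd)
  rwa [he] at this

variable (hinv : aX.act.left ⁻¹ᵁ pairOpen a b = (snd (ThetaS.Gm R) (CoactBr.sp R B)).left ⁻¹ᵁ pairOpen a b)

include hinv in
lemma lands_pt {A : Type u} [CommRing A] [Algebra R A] {x : B →ₐ[R] A} (hx : LandsA a b x) :
    Lands (pairOpen a b) (triv K₀ (ThetaS.Gm R) aX (CoactBr.pt x)) :=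
  (lands_triv_iff hinv _).2 fun s => by
    have e := preimage_pairOpen x.toRingHom a b
    have : s ∈ Spec.map (CommRingCat.ofHom x.toRingHom) ⁻¹ᵁ pairOpen a b := by
      rw [e]
      change s ∈ pairOpen (x a) (x b)
      rw [pairOpen_eq_top hx]
      trivial
    exact this

variable (F : AlgSt.fullSub (ThetaS.overS h (AlgSt.QuotSt K₀ (ThetaS.Gm R) aX))
  (Lands (X := CoactBr.sp R B) (pairOpen a b)) ⥤ᵇ AlgSt.BG K₀ G)

section Frames

variable {A : Type u} [CommRing A] [Algebra R A] {A' : Type u} [CommRing A'] [Algebra R A']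
  {A'' : Type u} [CommRing A''] [Algebra R A'']

/-- The object of a landing point. -/
abbrev ptObj (x : B →ₐ[R] A) (hx : LandsA a b x) :
    (AlgSt.fullSub (ThetaS.overS h (AlgSt.QuotSt K₀ (ThetaS.Gm R) aX)) (Lands (X := CoactBr.sp R B) (pairOpen a b))).obj :=
  ⟨_, lands_pt hinv hx⟩

/-- The base of a point over `S`. -/
abbrev ptBase (h : Spec (CommRingCat.of R) ⟶ S) (A : Type u) [CommRing A] [Algebra R A] : Over S :=
  (Over.map h).obj (CoactBr.sp R A)

/-- A trivialisation over a point. -/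
structure Frame (x : B →ₐ[R] A) (hx : LandsA a b x) where
  /-- the trivialisation -/
  hom : trivTors (G := G) (ptBase h A) ⟶ F.obj (ptObj (h := h) hinv x hx)
  lift : (AlgSt.BG K₀ G).p.IsHomLift (𝟙 (ptBase h A)) hom

variable (P : MatPts G n) {F} {hinv}

/-- Matrices act on trivialisations. -/
def Frame.smul {x : B →ₐ[R] A} {hx : LandsA a b x} (g : GL (Fin n) A) (τ : Frame hinv F x hx) : Frame hinv F x hx :=
  ⟨eltHom (P.point (Z := ptBase h A) (toΓ g)) (𝟙 _) ≫ τ.hom,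
    homLift_id_comp (isHomLift_triv (eltHom_base _ _)) τ.lift⟩

/-- The morphism of objects over a morphism of rings and a unit. -/
def ptHom (C : GmSMul aX) {x : B →ₐ[R] A} {hx : LandsA a b x} {x' : B →ₐ[R] A'} {hx' : LandsA a b x'}
    (ψ : A →ₐ[R] A') (v : A'ˣ) (hr : C.smul v (ψ.comp x) = x') :
    ptObj (h := h) hinv x' hx' ⟶ ptObj (h := h) hinv x hx :=
  ObjectProperty.homMk (quotHom (CoactBr.pt (gmPt v)) (CoactBr.pt ψ) (by rw [← CoactBr.pt_comp, C.act, hr]))

lemma ptHom_base (C : GmSMul aX) {x : B →ₐ[R] A} {hx : LandsA a b x} {x' : B →ₐ[R] A'} {hx' : LandsA a b x'}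
    (ψ : A →ₐ[R] A') (v : A'ˣ) (hr : C.smul v (ψ.comp x) = x') :
    quotBase (ptHom (h := h) (hinv := hinv) C (hx := hx) (hx' := hx') ψ v hr).hom = CoactBr.pt ψ := by
  exact quotBase_quotHom (CoactBr.pt (gmPt v)) (CoactBr.pt ψ) (by rw [← CoactBr.pt_comp, C.act, hr])

lemma ptHom_elt (C : GmSMul aX) {x : B →ₐ[R] A} {hx : LandsA a b x} {x' : B →ₐ[R] A'} {hx' : LandsA a b x'}
    (ψ : A →ₐ[R] A') (v : A'ˣ) (hr : C.smul v (ψ.comp x) = x') :
    quotElt (ptHom (h := h) (hinv := hinv) C (hx := hx) (hx' := hx') ψ v hr).hom = CoactBr.pt (gmPt v) := by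
  exact quotElt_quotHom (CoactBr.pt (gmPt v)) (CoactBr.pt ψ) (by rw [← CoactBr.pt_comp, C.act, hr])

lemma ptHom_lift (C : GmSMul aX) {x : B →ₐ[R] A} {hx : LandsA a b x} {x' : B →ₐ[R] A'} {hx' : LandsA a b x'}
    (ψ : A →ₐ[R] A') (v : A'ˣ) (hr : C.smul v (ψ.comp x) = x') :
    (AlgSt.fullSub (ThetaS.overS h (AlgSt.QuotSt K₀ (ThetaS.Gm R) aX)) (Lands (X := CoactBr.sp R B) (pairOpen a b))).p.IsHomLift
      ((Over.map h).map (CoactBr.pt ψ)) (ptHom (h := h) (hinv := hinv) C (hx := hx) (hx' := hx') ψ v hr) :=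
  IsHomLift.of_fac' _ _ _ rfl rfl (by
    change (Over.map h).map (quotBase (ptHom (h := h) (hinv := hinv) C (hx := hx) (hx' := hx') ψ v hr).hom) = _
    rw [ptHom_base]
    simp)

/-- A frame pulls back along a morphism of points, uniquely. -/
lemma existsUnique_pull (C : GmSMul aX) {x : B →ₐ[R] A} {hx : LandsA a b x} {x' : B →ₐ[R] A'} (hx' : LandsA a b x')
    (ψ : A →ₐ[R] A') (v : A'ˣ) (hr : C.smul v (ψ.comp x) = x') (τ : Frame hinv F x hx) :
    ∃! τ' : Frame hinv F x' hx', τ'.hom ≫ F.map (ptHom C ψ v hr) = eltHom 1 ((Over.map h).map (CoactBr.pt ψ)) ≫ τ.hom := by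
  have hBG : FibCat.IsFibGrpd (AlgSt.BG K₀ G).p := quotSt_fibGrpd
  have := @BasedFunctor.preserves_isHomLift _ _ _ _ F _ _ _ _ _ _ (ptHom_lift (h := h) (hinv := hinv) C (hx := hx) (hx' := hx') ψ v hr)
  have := sc_of_fibGrpd hBG ((Over.map h).map (CoactBr.pt ψ)) (F.map (ptHom (h := h) (hinv := hinv) C (hx := hx) (hx' := hx') ψ v hr))
  have hc : (AlgSt.BG K₀ G).p.IsHomLift ((Over.map h).map (CoactBr.pt ψ) ≫ 𝟙 _)
      (eltHom 1 ((Over.map h).map (CoactBr.pt ψ)) ≫ τ.hom) :=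
    homLift_comp' (isHomLift_triv (eltHom_base _ _)) τ.lift
  rw [Category.comp_id] at hc
  obtain ⟨t, ⟨ht, hte⟩, htu⟩ := IsStronglyCartesian.universal_property (AlgSt.BG K₀ G).p
    ((Over.map h).map (CoactBr.pt ψ)) (F.map (ptHom (h := h) (hinv := hinv) C (hx := hx) (hx' := hx') ψ v hr))
    (𝟙 (ptBase h A')) ((Over.map h).map (CoactBr.pt ψ)) (Category.id_comp _).symm
    (eltHom 1 ((Over.map h).map (CoactBr.pt ψ)) ≫ τ.hom)
  refine ⟨⟨t, ht⟩, hte, fun τ' hτ' => ?_⟩
  obtain ⟨t', ht'⟩ := τ'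
  obtain rfl : t' = t := htu t' ⟨ht', hτ'⟩
  rfl

/-- The pullback of a frame. -/
def Frame.pull (C : GmSMul aX) {x : B →ₐ[R] A} {hx : LandsA a b x} {x' : B →ₐ[R] A'} {hx' : LandsA a b x'}
    (ψ : A →ₐ[R] A') (v : A'ˣ) (hr : C.smul v (ψ.comp x) = x') (τ : Frame hinv F x hx) : Frame hinv F x' hx' :=
  (existsUnique_pull C hx' ψ v hr τ).choose

lemma Frame.pull_spec (C : GmSMul aX) {x : B →ₐ[R] A} {hx : LandsA a b x} {x' : B →ₐ[R] A'} {hx' : LandsA a b x'}
    (ψ : A →ₐ[R] A') (v : A'ˣ) (hr : C.smul v (ψ.comp x) = x') (τ : Frame hinv F x hx) :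
    (τ.pull C (hx' := hx') ψ v hr).hom ≫ F.map (ptHom C ψ v hr) =
      eltHom 1 ((Over.map h).map (CoactBr.pt ψ)) ≫ τ.hom :=
  (existsUnique_pull C hx' ψ v hr τ).choose_spec.1

lemma Frame.eq_pull (C : GmSMul aX) {x : B →ₐ[R] A} {hx : LandsA a b x} {x' : B →ₐ[R] A'} {hx' : LandsA a b x'}
    (ψ : A →ₐ[R] A') (v : A'ˣ) (hr : C.smul v (ψ.comp x) = x') {τ : Frame hinv F x hx} {τ' : Frame hinv F x' hx'}
    (he : τ'.hom ≫ F.map (ptHom C ψ v hr) = eltHom 1 ((Over.map h).map (CoactBr.pt ψ)) ≫ τ.hom) :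
    τ' = τ.pull C ψ v hr :=
  (existsUnique_pull C hx' ψ v hr τ).choose_spec.2 τ' he

lemma eltHom_comp {T'' T' T : Over S} (g' : T'' ⟶ G) (t' : T'' ⟶ T') (g : T' ⟶ G) (t : T' ⟶ T) :
    eltHom g' t' ≫ eltHom g t = eltHom (g' * (t' ≫ g)) (t' ≫ t) := by
  refine trivTors_ext ?_ ?_
  · exact (congrArg₂ (· ≫ ·) (eltHom_base _ _) (eltHom_base _ _)).trans (eltHom_base _ _).symm
  · rw [gpElt_comp, gpElt_eltHom, gpElt_eltHom, gpElt_eltHom, eltHom_base]

lemma point_map (ψ : A →ₐ[R] A') (g : GL (Fin n) A) :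
    (Over.map h).map (CoactBr.pt ψ) ≫ P.point (Z := ptBase h A) (toΓ g) =
      P.point (Z := ptBase h A') (toΓ (Matrix.GeneralLinearGroup.map ψ.toRingHom g)) := by
  refine P.ext ?_
  rw [P.nat, P.mat_point, P.mat_point]
  refine Units.ext (Matrix.ext fun i j => ?_)
  exact (congrArg (fun k => k.hom (g.val i j)) (Scheme.ΓSpecIso_inv_naturality (CommRingCat.ofHom ψ.toRingHom))).symm

lemma Frame.pull_smul (C : GmSMul aX) {x : B →ₐ[R] A} {hx : LandsA a b x} {x' : B →ₐ[R] A'} {hx' : LandsA a b x'}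
    (ψ : A →ₐ[R] A') (v : A'ˣ) (hr : C.smul v (ψ.comp x) = x') (g : GL (Fin n) A) (τ : Frame hinv F x hx) :
    (τ.smul P g).pull C (hx' := hx') ψ v hr = (τ.pull C ψ v hr).smul P (Matrix.GeneralLinearGroup.map ψ.toRingHom g) := by
  refine (Frame.eq_pull C ψ v hr ?_).symm
  change (eltHom _ _ ≫ (τ.pull C ψ v hr).hom) ≫ _ = _ ≫ eltHom _ _ ≫ τ.hom
  rw [Category.assoc, Frame.pull_spec, ← Category.assoc, ← Category.assoc, eltHom_comp, eltHom_comp]
  simp only [Category.id_comp, Category.comp_id, _root_.mul_one, _root_.one_mul, point_map, MonObj.comp_one]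

lemma Frame.pull_pull (C : GmSMul aX) {x : B →ₐ[R] A} {hx : LandsA a b x} {x' : B →ₐ[R] A'} {hx' : LandsA a b x'}
    {x'' : B →ₐ[R] A''} {hx'' : LandsA a b x''}
    (ψ : A →ₐ[R] A') (v : A'ˣ) (hr : C.smul v (ψ.comp x) = x')
    (ψ' : A' →ₐ[R] A'') (v' : A''ˣ) (hr' : C.smul v' (ψ'.comp x') = x'')
    (φ : A →ₐ[R] A'') (w : A''ˣ) (hr'' : C.smul w (φ.comp x) = x'')
    (hφ : ψ'.comp ψ = φ) (hw : v' * Units.map (ψ' : A' →* A'') v = w) (τ : Frame hinv F x hx) :
    (τ.pull C (hx' := hx') ψ v hr).pull C (hx' := hx'') ψ' v' hr' = τ.pull C φ w hr'' := by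
  refine Frame.eq_pull C φ w hr'' ?_
  have e : ptHom (h := h) (hinv := hinv) C (hx := hx) (hx' := hx'') φ w hr'' = ptHom C (hx := hx') ψ' v' hr' ≫ ptHom C ψ v hr := by
    apply ObjectProperty.hom_ext
    refine quot_ext ?_ ?_
    · change quotBase _ = quotBase (_ ≫ _)
      rw [ptHom_base]
      refine (congrArg CoactBr.pt hφ.symm).trans ((CoactBr.pt_comp ψ ψ').trans ?_)
      exact (congrArg₂ (· ≫ ·) (ptHom_base (h := h) (hinv := hinv) C (hx := hx') (hx' := hx'') ψ' v' hr')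
        (ptHom_base (h := h) (hinv := hinv) C (hx := hx) (hx' := hx') ψ v hr)).symm
    · change quotElt _ = quotElt (_ ≫ _)
      rw [ptHom_elt]
      refine Eq.trans ?_ (quotElt_comp _ _).symm
      rw [ptHom_elt, ptHom_elt, ptHom_base, ← CoactBr.pt_comp, comp_gmPt, ← pt_gmPt_mul, hw]
  rw [e, F.toFunctor.map_comp, ← Category.assoc, Frame.pull_spec, Category.assoc, Frame.pull_spec, ← Category.assoc,
    eltHom_comp, MonObj.comp_one, _root_.mul_one, ← Functor.map_comp, ← CoactBr.pt_comp, hφ]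

lemma Frame.pull_id (C : GmSMul aX) {x : B →ₐ[R] A} {hx : LandsA a b x} (hr : C.smul 1 ((AlgHom.id R A).comp x) = x)
    (τ : Frame hinv F x hx) : τ.pull C (hx' := hx) (AlgHom.id R A) 1 hr = τ := by
  refine (Frame.eq_pull C _ _ hr ?_).symm
  have e : ptHom (h := h) (hinv := hinv) C (hx := hx) (hx' := hx) (AlgHom.id R A) 1 hr = 𝟙 _ := by
    apply ObjectProperty.hom_ext
    refine quot_ext ?_ ?_
    · exact (ptHom_base (h := h) (hinv := hinv) C (hx := hx) (hx' := hx) (AlgHom.id R A) 1 hr).trans CoactBr.pt_id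
    · exact ((ptHom_elt (h := h) (hinv := hinv) C (hx := hx) (hx' := hx) (AlgHom.id R A) 1 hr).trans pt_gmPt_one).trans
        quotElt_id.symm
  have e' : eltHom (G := G) 1 ((Over.map h).map (CoactBr.pt (AlgHom.id R A))) = 𝟙 (trivTors (ptBase h A)) := by
    refine trivTors_ext ?_ ((gpElt_eltHom _ _).trans (gpElt_id _).symm)
    rw [eltHom_base, CoactBr.pt_id, CategoryTheory.Functor.map_id]
    rfl
  rw [e, F.toFunctor.map_id, e']
  exact (Category.comp_id _).trans (Category.id_comp _).symm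

/-- Two frames differ by a matrix. -/
lemma Frame.exists_smul {x : B →ₐ[R] A} {hx : LandsA a b x} (τ τ' : Frame hinv F x hx) :
    ∃ g : GL (Fin n) A, τ' = τ.smul P g := by
  haveI := τ.lift
  have : IsIso τ.hom := isIso_of_fibGrpd quotSt_fibGrpd (𝟙 (ptBase h A)) τ.hom
  have hi : (AlgSt.BG K₀ G).p.IsHomLift (𝟙 (ptBase h A)) (τ'.hom ≫ inv τ.hom) :=
    homLift_id_comp τ'.lift (IsHomLift.lift_id_inv_isIso (AlgSt.BG K₀ G).p _ τ.hom)
  have hb := base_of_isHomLift hi
  refine ⟨Matrix.GeneralLinearGroup.map (Scheme.ΓSpecIso (CommRingCat.of A)).hom.hom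
    (P.mat (gpElt (τ'.hom ≫ inv τ.hom))), ?_⟩
  obtain ⟨t', ht'⟩ := τ'
  suffices t' = eltHom (P.point (Z := ptBase h A) (toΓ (Matrix.GeneralLinearGroup.map
      (Scheme.ΓSpecIso (CommRingCat.of A)).hom.hom (P.mat (gpElt (t' ≫ inv τ.hom)))))) (𝟙 _) ≫ τ.hom by
    change Frame.mk t' ht' = Frame.mk _ _
    congr 1
  rw [← IsIso.comp_inv_eq]
  refine trivTors_ext (hb.trans (eltHom_base _ _).symm) ?_
  rw [gpElt_eltHom]
  refine P.ext (Eq.trans ?_ (P.mat_point _).symm)
  refine Units.ext (Matrix.ext fun i j => ?_)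
  exact (congrArg (fun k : Γ(Spec (CommRingCat.of A), ⊤) ⟶ Γ(Spec (CommRingCat.of A), ⊤) =>
    k.hom ((P.mat (gpElt (t' ≫ inv τ.hom))).val i j)) (Scheme.ΓSpecIso (CommRingCat.of A)).hom_inv_id).symm

lemma Frame.smul_smul {x : B →ₐ[R] A} {hx : LandsA a b x} (g g' : GL (Fin n) A) (τ : Frame hinv F x hx) :
    (τ.smul P g).smul P g' = τ.smul P (g' * g) := by
  change Frame.mk (eltHom _ _ ≫ eltHom _ _ ≫ τ.hom) _ = Frame.mk _ _
  congr 1
  rw [← Category.assoc, eltHom_comp, Category.id_comp, Category.id_comp]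
  congr 2
  refine P.ext ?_
  rw [P.mul, P.mat_point, P.mat_point, P.mat_point, map_mul]

lemma Frame.smul_one {x : B →ₐ[R] A} {hx : LandsA a b x} (τ : Frame hinv F x hx) : τ.smul P 1 = τ := by
  obtain ⟨t, ht⟩ := τ
  change Frame.mk _ _ = Frame.mk _ _
  congr 1
  have : eltHom (P.point (Z := ptBase h A) (toΓ (1 : GL (Fin n) A))) (𝟙 _) = 𝟙 (trivTors (ptBase h A)) := by
    refine trivTors_ext (eltHom_base _ _) ?_
    rw [gpElt_eltHom, gpElt_id]
    exact P.ext (by rw [P.mat_point, map_one, P.one])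
  rw [this, Category.id_comp]

lemma Frame.smul_inj {x : B →ₐ[R] A} {hx : LandsA a b x} {g g' : GL (Fin n) A} {τ : Frame hinv F x hx}
    (e : τ.smul P g = τ.smul P g') : g = g' := by
  haveI := τ.lift
  have : IsIso τ.hom := isIso_of_fibGrpd quotSt_fibGrpd (𝟙 (ptBase h A)) τ.hom
  have e1 := congrArg (fun a => P.mat (gpElt a)) ((cancel_mono τ.hom).1 (congrArg Frame.hom e))
  simp only [gpElt_eltHom, P.mat_point] at e1
  refine Units.ext (Matrix.ext fun i j => ?_)
  exact (Scheme.ΓSpecIso (CommRingCat.of A)).symm.commRingCatIsoToRingEquiv.injective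
    (congrArg (fun k : GL (Fin n) Γ(Spec (CommRingCat.of A), ⊤) => k.val i j) e1)

/-- A trivialisation from a section, over a prescribed base. -/
lemma exists_triv_of_section {T : Over S} (E : (AlgSt.BG K₀ G).obj) (e : E.base = T) [IsAffine T.left]
    [IsDomain Γ(T.left, ⊤)] [IsPrincipalIdealRing Γ(T.left, ⊤)] (P : MatPts G n) :
    ∃ t : trivTors (G := G) T ⟶ E, (AlgSt.BG K₀ G).p.IsHomLift (𝟙 T) t := by
  subst e
  obtain ⟨σ, hσ⟩ := exists_section P E
  refine ⟨homOfSec σ (toUnit_unique _ _), IsHomLift.of_fac' _ _ _ rfl rfl ?_⟩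
  change σ ≫ E.π = 𝟙 _ ≫ 𝟙 _ ≫ 𝟙 _
  simp [hσ]

include P in
/-- Over a principal ideal domain there is a frame. -/
theorem exists_frame [IsDomain A] [IsPrincipalIdealRing A] (x : B →ₐ[R] A) (hx : LandsA a b x) :
    Nonempty (Frame hinv F x hx) := by
  let e := (Scheme.ΓSpecIso (CommRingCat.of A)).symm.commRingCatIsoToRingEquiv
  have : IsDomain Γ((ptBase h A).left, ⊤) := MulEquiv.isDomain A e.symm.toMulEquiv
  have : IsPrincipalIdealRing Γ((ptBase h A).left, ⊤) := IsPrincipalIdealRing.of_surjective e.toRingHom e.surjective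
  have : IsAffine (ptBase h A).left := inferInstanceAs (IsAffine (Spec _))
  obtain ⟨t, ht⟩ := exists_triv_of_section (T := ptBase h A) (F.obj (ptObj hinv x hx)) (F.w_obj (ptObj hinv x hx)) P
  exact ⟨⟨t, ht⟩⟩

end Frames

end Groth.Agent.H14GL
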