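import Groth.Agent.H14GL.Frames

/-!
# Frames on two opens which agree on the overlap give a trivialisation on the union
-/

set_option autoImplicit false
set_option linter.unusedVariables false
set_option backward.isDefEq.respectTransparency false
set_option backward.isDefEq.respectTransparency.types false

universe u

open CategoryTheory CategoryTheory.Functor CategoryTheory.Limits MonoidalCategory CartesianMonoidalCategory MonObj GrpObj
open AlgebraicGeometry
open scoped TensorProduct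

noncomputable section

namespace Groth.Agent.H14GL

open H14Fib H14Stk H14AlgSt H14Quot H14Lift

local notation "K₀" => Scheme.fppfPrecoverage

variable {S : Scheme.{u}} {G : Over S} [GrpObj G]

lemma secOfHom_eltHom_comp {T' T : Over S} (t : T' ⟶ T) {E : (AlgSt.BG K₀ G).obj} (k : trivTors (G := G) T ⟶ E) :
    secOfHom (eltHom 1 t ≫ k) = t ≫ secOfHom k := by
  have e : k.top = (G ◁ secOfHom k) ≫ E.act.act := (congrArg (fun t => t.top) (homOfSec_secOfHom k)).symm
  have e' : secOfHom (eltHom 1 t ≫ k) = secOfHom (eltHom 1 t) ≫ k.top := (Category.assoc _ _ _).symm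
  rw [e', e, secOfHom_triv, gpElt_eltHom, eltHom_base, lift_whiskerLeft_assoc, unit_act]

variable {R B : Type u} [CommRing R] [CommRing B] [Algebra R B]
  {h : Spec (CommRingCat.of R) ⟶ S} {aX : AlgGrp.Action (ThetaS.Gm R) (CoactBr.sp R B)} {a b : B}
  {hinv : aX.act.left ⁻¹ᵁ pairOpen a b = (snd (ThetaS.Gm R) (CoactBr.sp R B)).left ⁻¹ᵁ pairOpen a b}
  {F : AlgSt.fullSub (ThetaS.overS h (AlgSt.QuotSt K₀ (ThetaS.Gm R) aX))
    (Lands (X := CoactBr.sp R B) (pairOpen a b)) ⥤ᵇ AlgSt.BG K₀ G}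

lemma GmSMul.smul_one (C : GmSMul aX) {A : Type u} [CommRing A] [Algebra R A] (x : B →ₐ[R] A) : C.smul 1 x = x := by
  refine CoactBr.pt_injective ((C.act 1 x).symm.trans ?_)
  rw [pt_gmPt_one]
  exact AlgGrp.Action.lift_one_act aX _

/-- Frames on two opens agreeing on the overlap glue. -/
theorem exists_triv_of_frames (C : GmSMul aX) {Aa Ab A₂ : Type u} [CommRing Aa] [Algebra R Aa] [CommRing Ab]
    [Algebra R Ab] [CommRing A₂] [Algebra R A₂] (φa : B →ₐ[R] Aa) (φb : B →ₐ[R] Ab) (ψa : Aa →ₐ[R] A₂)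
    (ψb : Ab →ₐ[R] A₂) (hψ : ψa.comp φa = ψb.comp φb)
    [IsOpenImmersion (Spec.map (CommRingCat.ofHom φa.toRingHom))]
    [IsOpenImmersion (Spec.map (CommRingCat.ofHom φb.toRingHom))]
    (hcov : ∀ p ∈ pairOpen a b, p ∈ Set.range (Spec.map (CommRingCat.ofHom φa.toRingHom)) ∨
      p ∈ Set.range (Spec.map (CommRingCat.ofHom φb.toRingHom)))
    (hpush : IsPushout (CommRingCat.ofHom φa.toRingHom) (CommRingCat.ofHom φb.toRingHom)
      (CommRingCat.ofHom ψa.toRingHom) (CommRingCat.ofHom ψb.toRingHom))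
    (ha : LandsA a b φa) (hb : LandsA a b φb) (h₂ : LandsA a b (ψa.comp φa))
    (τa : Frame hinv F φa ha) (τb : Frame hinv F φb hb)
    (hag : τa.pull C (hx' := h₂) ψa 1 (C.smul_one _) =
      τb.pull C (hx' := h₂) ψb 1 ((C.smul_one _).trans hψ.symm))
    (hU : Lands (pairOpen a b) (triv K₀ (ThetaS.Gm R) aX (H13AlgSp.openIncl (CoactBr.sp R B) (pairOpen a b)))) :
    ∃ τ : trivTors (G := G) ((Over.map h).obj (H13AlgSp.openOver (CoactBr.sp R B) (pairOpen a b))) ⟶ F.obj ⟨_, hU⟩,
      (AlgSt.BG K₀ G).p.IsHomLift (𝟙 ((Over.map h).obj (H13AlgSp.openOver (CoactBr.sp R B) (pairOpen a b)))) τ := by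
  let X := CoactBr.sp R B
  let U := pairOpen a b
  let U' := H13AlgSp.openOver X U
  let j : U' ⟶ X := H13AlgSp.openIncl X U
  let m := Over.map h
  let E := F.obj ⟨_, hU⟩
  have e : E.base = m.obj U' := F.w_obj ⟨_, hU⟩
  have : Mono j.left := inferInstanceAs (Mono U.ι)
  have : Mono j := (Over.forget _).mono_of_mono_map (inferInstanceAs (Mono j.left))
  have hfac : ∀ {A : Type u} [CommRing A] [Algebra R A] (x : B →ₐ[R] A), LandsA a b x →
      ∃ l : CoactBr.sp R A ⟶ U', l ≫ j = CoactBr.pt x := fun {A} _ _ x hx => by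
    have hr : Set.range (CoactBr.pt x).left ⊆ Set.range U.ι := by
      rintro _ ⟨s, rfl⟩
      exact U.range_ι.ge ((lands_triv_iff hinv _).1 (lands_pt hinv hx) s)
    refine ⟨Over.homMk (IsOpenImmersion.lift U.ι (CoactBr.pt x).left hr) ?_,
      Over.OverMorphism.ext (IsOpenImmersion.lift_fac _ _ hr)⟩
    change _ ≫ U.ι ≫ X.hom = _
    rw [IsOpenImmersion.lift_fac_assoc, Over.w]
  let M : ∀ {A : Type u} [CommRing A] [Algebra R A] (x : B →ₐ[R] A) (hx : LandsA a b x),
      ptObj (h := h) hinv x hx ⟶ ⟨_, hU⟩ := fun x hx =>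
    ObjectProperty.homMk (overHom (hfac x hx).choose (hfac x hx).choose_spec)
  let sec : ∀ {A : Type u} [CommRing A] [Algebra R A] {x : B →ₐ[R] A} {hx : LandsA a b x},
      Frame hinv F x hx → (ptBase h A ⟶ E.P) := fun {A} _ _ {x} {hx} τ => secOfHom (τ.hom ≫ F.map (M x hx))
  have hsecπ : ∀ {A : Type u} [CommRing A] [Algebra R A] {x : B →ₐ[R] A} {hx : LandsA a b x}
      (τ : Frame hinv F x hx), sec τ ≫ E.π ≫ eqToHom e = m.map (hfac x hx).choose := fun {A} _ _ {x} {hx} τ => by
    have hM : (AlgSt.fullSub (ThetaS.overS h (AlgSt.QuotSt K₀ (ThetaS.Gm R) aX)) (Lands (X := X) U)).p.IsHomLift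
        (m.map (hfac x hx).choose) (M x hx) := IsHomLift.of_fac' _ _ _ rfl rfl (by
      change m.map (quotBase (overHom (aX := aX) (hfac x hx).choose (hfac x hx).choose_spec)) = _
      rw [overHom_base]
      simp)
    have hl := homLift_comp' τ.lift (@BasedFunctor.preserves_isHomLift _ _ _ _ F _ _ _ _ _ _ hM)
    rw [Category.id_comp] at hl
    have hf := @IsHomLift.fac _ _ _ _ (AlgSt.BG K₀ G).p _ _ _ _ (m.map (hfac x hx).choose) (τ.hom ≫ F.map (M x hx)) hl
    rw [← Category.assoc, secOfHom_π]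
    rw [hf]
    simp
    rfl
  have hnat : ∀ {A A' : Type u} [CommRing A] [Algebra R A] [CommRing A'] [Algebra R A'] {x : B →ₐ[R] A}
      {hx : LandsA a b x} {x' : B →ₐ[R] A'} {hx' : LandsA a b x'} (ψ : A →ₐ[R] A') (hr : C.smul 1 (ψ.comp x) = x')
      (τ : Frame hinv F x hx), sec (τ.pull C (hx' := hx') ψ 1 hr) = m.map (CoactBr.pt ψ) ≫ sec τ :=
    fun {A A'} _ _ _ _ {x} {hx} {x'} {hx'} ψ hr τ => by
    change secOfHom _ = _ ≫ secOfHom _
    rw [← secOfHom_eltHom_comp, ← Category.assoc, ← Frame.pull_spec C ψ 1 hr τ, Category.assoc,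
      ← F.toFunctor.map_comp]
    congr 2
    apply congrArg
    apply ObjectProperty.hom_ext
    let l' := (hfac x' hx').choose
    let l := (hfac x hx).choose
    change overHom (aX := aX) l' (hfac x' hx').choose_spec =
      (ptHom (h := h) (hinv := hinv) C (hx := hx) (hx' := hx') ψ 1 hr).hom ≫
        overHom (aX := aX) l (hfac x hx).choose_spec
    have e1 : l' = CoactBr.pt ψ ≫ l := by
      rw [← cancel_mono j, Category.assoc, (hfac x' hx').choose_spec, (hfac x hx).choose_spec, ← CoactBr.pt_comp,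
        ← C.smul_one (ψ.comp x), hr]
    refine quot_ext ?_ ?_
    · rw [overHom_base, quotBase_comp, ptHom_base, overHom_base]
      exact e1
    · rw [overHom_elt, quotElt_comp, ptHom_elt, overHom_elt, MonObj.comp_one, _root_.mul_one, pt_gmPt_one]
  let la := (hfac φa ha).choose
  let lb := (hfac φb hb).choose
  have hla : la.left ≫ U.ι = Spec.map (CommRingCat.ofHom φa.toRingHom) :=
    congrArg (fun k => Over.Hom.left k) (hfac φa ha).choose_spec
  have hlb : lb.left ≫ U.ι = Spec.map (CommRingCat.ofHom φb.toRingHom) :=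
    congrArg (fun k => Over.Hom.left k) (hfac φb hb).choose_spec
  have : IsOpenImmersion (la.left ≫ U.ι) := by rw [hla]; infer_instance
  have : IsOpenImmersion (lb.left ≫ U.ι) := by rw [hlb]; infer_instance
  let obj : Bool → Scheme.{u} := fun i => Bool.rec (motive := fun _ => Scheme.{u}) (Spec (CommRingCat.of Ab)) (Spec (CommRingCat.of Aa)) i
  let f : ∀ i : Bool, obj i ⟶ (U : Scheme) := fun i => Bool.rec lb.left la.left i
  let s : ∀ i : Bool, obj i ⟶ E.P.left := fun i => Bool.rec (sec τb).left (sec τa).left i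
  have hfi : ∀ i, IsOpenImmersion (f i) := fun i => by
    cases i
    · exact IsOpenImmersion.of_comp lb.left U.ι
    · exact IsOpenImmersion.of_comp la.left U.ι
  let 𝒰 : (U : Scheme).OpenCover := Scheme.Cover.mkOfCovers Bool obj f (fun u => by
    rcases hcov (U.ι u) (U.range_ι.le ⟨u, rfl⟩) with ⟨v, hv⟩ | ⟨v, hv⟩
    · exact ⟨true, v, U.ι.isOpenEmbedding.injective ((congrArg (fun k : Spec (CommRingCat.of Aa) ⟶ X.left => k v) hla).trans hv)⟩
    · exact ⟨false, v, U.ι.isOpenEmbedding.injective ((congrArg (fun k : Spec (CommRingCat.of Ab) ⟶ X.left => k v) hlb).trans hv)⟩) hfi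
  have hab : ∀ {W : Scheme.{u}} (p : W ⟶ Spec (CommRingCat.of Aa)) (q : W ⟶ Spec (CommRingCat.of Ab)),
      p ≫ la.left = q ≫ lb.left → p ≫ (sec τa).left = q ≫ (sec τb).left := fun p q hpq => by
    obtain ⟨k, hk₁, hk₂⟩ := (isPullback_SpecMap_of_isPushout _ _ _ _ hpush).exists_lift p q (by
      rw [← hla, ← hlb, ← Category.assoc, ← Category.assoc, hpq])
    have h3 := congrArg sec hag
    rw [hnat, hnat] at h3
    have h4 := congrArg (fun u => k ≫ Over.Hom.left u) h3
    simp only [Over.comp_left, ← Category.assoc] at h4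
    rw [← hk₁, ← hk₂]
    exact h4
  have hmono : ∀ i : Bool, Mono (f i) := fun i => by have := hfi i; infer_instance
  have hcond : ∀ i i' : 𝒰.I₀, pullback.fst (𝒰.f i) (𝒰.f i') ≫ s i = pullback.snd (𝒰.f i) (𝒰.f i') ≫ s i' := by
    intro i i'
    have hc : pullback.fst (𝒰.f i) (𝒰.f i') ≫ f i = pullback.snd (𝒰.f i) (𝒰.f i') ≫ f i' := pullback.condition
    cases i <;> cases i'
    · exact congrArg (· ≫ s false) ((hmono false).right_cancellation _ _ hc)
    · exact (hab _ _ hc.symm).symm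
    · exact hab _ _ hc
    · exact congrArg (· ≫ s true) ((hmono true).right_cancellation _ _ hc)
  let σ : (U : Scheme) ⟶ E.P.left := 𝒰.glueMorphisms s hcond
  have hσ : ∀ i, f i ≫ σ = s i := fun i => 𝒰.ι_glueMorphisms s hcond i
  have hσπ : σ ≫ E.π.left ≫ (eqToHom e).left = 𝟙 _ := by
    refine Scheme.Cover.hom_ext 𝒰 _ _ fun i => ?_
    change f i ≫ σ ≫ _ = f i ≫ _
    rw [Category.comp_id, reassoc_of% hσ i]
    cases i
    · exact congrArg (fun k => Over.Hom.left k) (hsecπ τb)
    · exact congrArg (fun k => Over.Hom.left k) (hsecπ τa)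
  let σ' : m.obj U' ⟶ E.P := Over.homMk σ (by
    change σ ≫ E.P.hom = (m.obj U').hom
    rw [← Over.w E.π, ← Over.w (eqToHom e), ← Category.assoc, ← Category.assoc]
    refine (congrArg (· ≫ (m.obj U').hom) ((Category.assoc _ _ _).trans hσπ)).trans (Category.id_comp _))
  refine ⟨homOfSec σ' (toUnit_unique _ _), IsHomLift.of_fac' _ _ _ rfl e ?_⟩
  change σ' ≫ E.π = 𝟙 _ ≫ 𝟙 _ ≫ eqToHom e.symm
  rw [Category.id_comp, Category.id_comp, ← cancel_mono (eqToHom e), eqToHom_trans, eqToHom_refl, Category.assoc]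
  exact Over.OverMorphism.ext hσπ

end Groth.Agent.H14GL
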