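import Groth.Agent.H14Lift.ThetaAffine
import Groth.Agent.H14Quot.QuotDiag

/-!
# Unique lifting against the diagonal gives uniqueness of lifts
-/

set_option autoImplicit false
set_option linter.unusedVariables false
set_option backward.isDefEq.respectTransparency false
set_option backward.isDefEq.respectTransparency.types false

universe u

open CategoryTheory CategoryTheory.Functor AlgebraicGeometry

noncomputable section

namespace Groth.Agent.H14GL

open H14Fib H14Stk H14Lift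

variable {S : Scheme.{u}} {𝒜 ℬ 𝒳 𝒴 : AlgSt.Cat S} {f : 𝒳 ⥤ᵇ 𝒴} {j : 𝒜 ⥤ᵇ ℬ}

open LiftSq in
/-- Unique lifting against the diagonal of a morphism gives uniqueness of lifts against it. -/
theorem liftsUnique_of_diag (h𝒳 : FibCat.IsFibGrpd 𝒳.p) (h𝒴 : FibCat.IsFibGrpd 𝒴.p)
    (hΔ : LiftsUniquely j (FibCat.diag f)) : LiftsUnique j f := by
  intro sq d d'
  let ζ : BasedFunctor.comp d.fn f ≅ BasedFunctor.comp d'.fn f := d.isoBot.symm ≪≫ d'.isoBot
  let y : ℬ ⥤ᵇ FibCat.fp f f := FibCat.fpLift d.fn d'.fn ζ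
  let t : BasedFunctor.comp j d.fn ≅ BasedFunctor.comp j d'.fn := d.isoTop ≪≫ d'.isoTop.symm
  have hζ : ∀ b, app d.isoBot.hom b ≫ app ζ.hom b = app d'.isoBot.hom b := fun b =>
    congrArg (fun k => app k b) (Iso.hom_inv_id_assoc d.isoBot d'.isoBot.hom)
  have hw : ∀ (e : sq.Lift) a, app e.isoBot.hom (j.obj a) ≫ f.map (app e.isoTop.hom a) = app sq.iso.hom a :=
    fun e a => congrArg (fun k => app k a) e.w
  have ht : ∀ a, f.map (app t.hom a) = app ζ.hom (j.obj a) := fun a => by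
    haveI hlift : 𝒴.p.IsHomLift (𝟙 (ℬ.p.obj (j.obj a))) (app d.isoBot.hom (j.obj a)) :=
      BasedNatTrans.isHomLift d.isoBot.hom rfl
    have := isIso_of_fibGrpd h𝒴 (𝟙 (ℬ.p.obj (j.obj a))) (app d.isoBot.hom (j.obj a))
    have hi : f.map (app d'.isoTop.hom a) ≫ f.map (app d'.isoTop.inv a) = 𝟙 _ := by
      rw [← f.toFunctor.map_comp, ← f.toFunctor.map_id]
      exact congrArg f.toFunctor.map (congrArg (fun k => app k a) d'.isoTop.hom_inv_id)
    rw [← cancel_epi (app d.isoBot.hom (j.obj a)), hζ]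
    change app d.isoBot.hom (j.obj a) ≫ f.map (app d.isoTop.hom a ≫ app d'.isoTop.inv a) = _
    rw [f.toFunctor.map_comp, reassoc_of% (hw d), ← hw d', Category.assoc, hi]
    exact Category.comp_id _
  let top : 𝒜 ⥤ᵇ 𝒳 := BasedFunctor.comp j d'.fn
  have hobj : ∀ a, 𝒳.p.obj (d'.fn.obj (j.obj a)) = 𝒜.p.obj a := fun a => (d'.fn.w_obj _).trans (j.w_obj a)
  have hfp : FibCat.IsFibGrpd (FibCat.fp f f).p := fp_fibGrpd h𝒳 h𝒳 h𝒴
  let i₀ : ∀ a, y.obj (j.obj a) ⟶ (FibCat.diag f).obj (top.obj a) := fun a => fpHom (app t.hom a) (𝟙 _) (by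
    change f.map (app t.hom a) ≫ 𝟙 _ = app ζ.hom (j.obj a) ≫ f.map (𝟙 _)
    rw [ht, f.toFunctor.map_id]
    rfl)
  have hi₀ : ∀ a, (FibCat.fp f f).p.IsHomLift (𝟙 (𝒜.p.obj a)) (i₀ a) := fun a =>
    (fp_isHomLift_iff _ _).2 (BasedNatTrans.isHomLift t.hom rfl)
  have hii : ∀ a, IsIso (i₀ a) := fun a =>
    haveI := hi₀ a
    isIso_of_fibGrpd hfp (𝟙 (𝒜.p.obj a)) (i₀ a)
  let sqΔ : Sq j (FibCat.diag f) := ⟨top, y, mkIso (fun a => @asIso _ _ _ _ (i₀ a) (hii a)) (fun {a b} φ => by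
    refine fp_hom_ext ?_ ?_
    · exact t.hom.toNatTrans.naturality φ
    · exact (Category.comp_id _).trans (Category.id_comp _).symm) hi₀⟩
  obtain ⟨⟨e⟩, hu⟩ := hΔ sqΔ
  let a₁ : ∀ b, d.fn.obj b ⟶ e.fn.obj b := fun b => (app e.isoBot.hom b).hom.fst
  let a₂ : ∀ b, d'.fn.obj b ⟶ e.fn.obj b := fun b => (app e.isoBot.hom b).hom.snd
  have hl : ∀ b, (FibCat.fp f f).p.IsHomLift (𝟙 (ℬ.p.obj b)) (app e.isoBot.hom b) := fun b =>
    BasedNatTrans.isHomLift e.isoBot.hom rfl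
  have h₁ : ∀ b, 𝒳.p.IsHomLift (𝟙 (ℬ.p.obj b)) (a₁ b) := fun b => haveI := hl b; fp_isHomLift_fst _ _
  have h₂ : ∀ b, 𝒳.p.IsHomLift (𝟙 (ℬ.p.obj b)) (a₂ b) := fun b => haveI := hl b; fp_isHomLift_snd' _ _
  have h₂i : ∀ b, IsIso (a₂ b) := fun b =>
    haveI := h₂ b
    isIso_of_fibGrpd h𝒳 (𝟙 (ℬ.p.obj b)) (a₂ b)
  have hn₁ : ∀ {b b' : ℬ.obj} (φ : b ⟶ b'), d.fn.map φ ≫ a₁ b' = a₁ b ≫ e.fn.map φ := fun φ =>
    by have h' := (e.isoBot.hom.toNatTrans.naturality φ); exact congrArg (fun k => k.hom.fst) h'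
  have hn₂ : ∀ {b b' : ℬ.obj} (φ : b ⟶ b'), d'.fn.map φ ≫ a₂ b' = a₂ b ≫ e.fn.map φ := fun φ =>
    by have h' := (e.isoBot.hom.toNatTrans.naturality φ); exact congrArg (fun k => k.hom.snd) h'
  have hl' : ∀ b, 𝒳.p.IsHomLift (𝟙 (ℬ.p.obj b)) (a₁ b ≫ inv (a₂ b)) := fun b => by
    haveI := h₂ b
    exact homLift_id_comp (h₁ b) (IsHomLift.lift_id_inv_isIso 𝒳.p _ (a₂ b))
  let Θ : d.fn ⟶ d'.fn :=
    { app := fun b => a₁ b ≫ inv (a₂ b)
      naturality := fun b b' φ => by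
        rw [← Category.assoc, hn₁, Category.assoc, Category.assoc]
        congr 1
        rw [IsIso.comp_inv_eq, Category.assoc, hn₂, IsIso.inv_hom_id_assoc]
      isHomLift' := hl' }
  have hΘf : ∀ b, f.map (a₁ b ≫ inv (a₂ b)) = app ζ.hom b := fun b => by
    have hk := (app e.isoBot.hom b).hom.w
    change f.map (a₁ b) ≫ 𝟙 _ = app ζ.hom b ≫ f.map (a₂ b) at hk
    rw [Category.comp_id] at hk
    rw [f.toFunctor.map_comp, hk, Category.assoc, ← f.toFunctor.map_comp, IsIso.hom_inv_id, f.toFunctor.map_id]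
    exact Category.comp_id _
  have hew : ∀ a, app e.isoBot.hom (j.obj a) ≫ (FibCat.diag f).map (app e.isoTop.hom a) = i₀ a := fun a =>
    congrArg (fun k => app k a) e.w
  have hΘj : ∀ a, a₁ (j.obj a) ≫ inv (a₂ (j.obj a)) = app t.hom a := fun a => by
    have e1 : a₁ (j.obj a) ≫ app e.isoTop.hom a = app t.hom a := by have h' := (hew a); exact congrArg (fun k => k.hom.fst) h'
    have e2 : a₂ (j.obj a) ≫ app e.isoTop.hom a = 𝟙 _ := by have h' := (hew a); exact congrArg (fun k => k.hom.snd) h'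
    rw [← e1, show inv (a₂ (j.obj a)) = app e.isoTop.hom a from (IsIso.eq_inv_of_hom_inv_id e2).symm]
  have htop : BasedCategory.whiskerLeft j Θ ≫ d'.isoTop.hom = d.isoTop.hom := hom_ext fun a => by
    change (a₁ (j.obj a) ≫ inv (a₂ (j.obj a))) ≫ app d'.isoTop.hom a = app d.isoTop.hom a
    rw [hΘj]
    change (app d.isoTop.hom a ≫ app d'.isoTop.inv a) ≫ app d'.isoTop.hom a = _
    rw [Category.assoc]
    exact (congrArg (app d.isoTop.hom a ≫ ·) (congrArg (fun k => app k a) d'.isoTop.inv_hom_id)).trans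
      (Category.comp_id _)
  have hbot : d.isoBot.hom ≫ BasedCategory.whiskerRight Θ f = d'.isoBot.hom := hom_ext fun b => by
    change app d.isoBot.hom b ≫ f.map (a₁ b ≫ inv (a₂ b)) = _
    rw [hΘf, hζ]
  refine ⟨⟨⟨⟨Θ, htop, hbot⟩⟩, fun μ => Sq.Lift.hom_ext ?_⟩⟩
  -- a second morphism gives a second dotted arrow of the auxiliary square
  have hμf : ∀ b, f.map (app μ.hom b) = app ζ.hom b := fun b => by
    haveI hlift : 𝒴.p.IsHomLift (𝟙 (ℬ.p.obj b)) (app d.isoBot.hom b) := BasedNatTrans.isHomLift d.isoBot.hom rfl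
    have := isIso_of_fibGrpd h𝒴 (𝟙 (ℬ.p.obj b)) (app d.isoBot.hom b)
    rw [← cancel_epi (app d.isoBot.hom b), hζ]
    exact congrArg (fun k => app k b) μ.w_bot
  let ib : ∀ b, y.obj b ⟶ (FibCat.diag f).obj (d'.fn.obj b) := fun b => fpHom (app μ.hom b) (𝟙 _) (by
    change f.map (app μ.hom b) ≫ 𝟙 _ = app ζ.hom b ≫ f.map (𝟙 _)
    rw [hμf, f.toFunctor.map_id])
  have hib : ∀ b, (FibCat.fp f f).p.IsHomLift (𝟙 (ℬ.p.obj b)) (ib b) := fun b =>
    (fp_isHomLift_iff _ _).2 (BasedNatTrans.isHomLift μ.hom rfl)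
  have hibi : ∀ b, IsIso (ib b) := fun b =>
    haveI := hib b
    isIso_of_fibGrpd hfp (𝟙 (ℬ.p.obj b)) (ib b)
  let e' : sqΔ.Lift := ⟨d'.fn, Iso.refl _, mkIso (fun b => @asIso _ _ _ _ (ib b) (hibi b)) (fun {b b'} φ => by
    refine fp_hom_ext ?_ ?_
    · exact μ.hom.toNatTrans.naturality φ
    · exact (Category.comp_id _).trans (Category.id_comp _).symm) hib, hom_ext fun a => by
    change ib (j.obj a) ≫ (FibCat.diag f).map (𝟙 (d'.fn.obj (j.obj a))) = i₀ a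
    rw [(FibCat.diag f).toFunctor.map_id, Category.comp_id]
    refine fp_hom_ext ?_ rfl
    have h := congrArg (fun k => app k a) μ.w_top
    change app μ.hom (j.obj a) = app d.isoTop.hom a ≫ app d'.isoTop.inv a
    rw [← h]
    change _ = (app μ.hom (j.obj a) ≫ app d'.isoTop.hom a) ≫ app d'.isoTop.inv a
    rw [Category.assoc]
    exact ((congrArg (app μ.hom (j.obj a) ≫ ·) (congrArg (fun k => app k a) d'.isoTop.hom_inv_id)).trans
      (Category.comp_id _)).symm⟩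
  obtain ⟨ν⟩ := hu e e'
  refine hom_ext fun b => ?_
  have hν := congrArg (fun k => app k b) ν.default.w_bot
  change app e.isoBot.hom b ≫ (FibCat.diag f).map (app ν.default.hom b) = ib b at hν
  have e1 : a₁ b ≫ app ν.default.hom b = app μ.hom b := by have h' := hν; exact congrArg (fun k => k.hom.fst) h'
  have e2 : a₂ b ≫ app ν.default.hom b = 𝟙 _ := by have h' := hν; exact congrArg (fun k => k.hom.snd) h'
  change app μ.hom b = a₁ b ≫ inv (a₂ b)
  rw [← e1, (IsIso.eq_inv_of_hom_inv_id e2)]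

end Groth.Agent.H14GL
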