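import Groth.Agent.H14GL.Glue
import Groth.Agent.H14GL.Ext
import Groth.Agent.H14GL.Unique
import Groth.Agent.H14Ga.NotExtend

/-!
# Lifting functors into `BG` for a matrix group
-/

set_option autoImplicit false
set_option linter.unusedVariables false
set_option backward.isDefEq.respectTransparency false
set_option backward.isDefEq.respectTransparency.types false

universe u

open CategoryTheory CategoryTheory.Functor CategoryTheory.Limits MonoidalCategory CartesianMonoidalCategory MonObj GrpObj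
open AlgebraicGeometry
open scoped TensorProduct

noncomputable section

namespace Groth.Agent.H14GL

open H14Fib H14Stk H14AlgSt H14Quot H14Lift

local notation "K₀" => Scheme.fppfPrecoverage

variable {S : Scheme.{u}} {G : Over S} [GrpObj G] {R B : Type u} [CommRing R] [CommRing B] [Algebra R B]
  {h : Spec (CommRingCat.of R) ⟶ S} {aX : AlgGrp.Action (ThetaS.Gm R) (CoactBr.sp R B)} {a b : B}

lemma lands_openIncl (hinv : aX.act.left ⁻¹ᵁ pairOpen a b = (snd (ThetaS.Gm R) (CoactBr.sp R B)).left ⁻¹ᵁ pairOpen a b) :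
    Lands (pairOpen a b) (triv K₀ (ThetaS.Gm R) aX (H13AlgSp.openIncl (CoactBr.sp R B) (pairOpen a b))) :=
  (lands_triv_iff hinv _).2 fun s => (pairOpen a b).range_ι.le ⟨s, rfl⟩

/-- Functors into `BG` extend from the locus of a regular pair if they are trivial on it. -/
theorem lifts_BG (hinv : aX.act.left ⁻¹ᵁ pairOpen a b = (snd (ThetaS.Gm R) (CoactBr.sp R B)).left ⁻¹ᵁ pairOpen a b)
    (hab : RingTheory.Sequence.IsWeaklyRegular B [a, b]) (hG : IsAffineHom G.hom)
    (htriv : ∀ F : AlgSt.fullSub (ThetaS.overS h (AlgSt.QuotSt K₀ (ThetaS.Gm R) aX))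
        (Lands (X := CoactBr.sp R B) (pairOpen a b)) ⥤ᵇ AlgSt.BG K₀ G,
      ∃ τ : trivTors (G := G) ((Over.map h).obj (H13AlgSp.openOver (CoactBr.sp R B) (pairOpen a b))) ⟶
          F.obj ⟨_, lands_openIncl hinv⟩,
        (AlgSt.BG K₀ G).p.IsHomLift (𝟙 ((Over.map h).obj (H13AlgSp.openOver (CoactBr.sp R B) (pairOpen a b)))) τ) :
    LiftSq.Lifts (AlgSt.subIncl (ThetaS.overS h (AlgSt.QuotSt K₀ (ThetaS.Gm R) aX))
      (Lands (X := CoactBr.sp R B) (pairOpen a b))) (FibCat.toSelf (AlgSt.BG K₀ G)) := by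
  intro sq
  let U : (CoactBr.sp R B).left.Opens := pairOpen a b
  let j := H13AlgSp.openIncl (CoactBr.sp R B) U
  have : Mono j.left := inferInstanceAs (Mono U.ι)
  have : Mono j := (Over.forget _).mono_of_mono_map (inferInstanceAs (Mono j.left))
  obtain ⟨he, hi⟩ := extension_props h aX hab hG
  refine hasLift_BG (j := j) hinv (lands_openIncl hinv) hG (fun {Z} z hz => ?_) he hi sq (htriv sq.top)
  have hr : Set.range z.left ⊆ Set.range U.ι := by
    rintro _ ⟨s, rfl⟩
    exact U.range_ι.ge ((lands_triv_iff hinv _).1 hz s)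
  refine ⟨Over.homMk (IsOpenImmersion.lift U.ι z.left hr) ?_,
    Over.OverMorphism.ext (IsOpenImmersion.lift_fac _ _ hr)⟩
  change _ ≫ U.ι ≫ (CoactBr.sp R B).hom = _
  rw [IsOpenImmersion.lift_fac_assoc, Over.w]

/-- The affine diagonal of `BG`. -/
theorem repWith_diag_BG (hG : IsAffineHom G.hom) (hGf : Flat G.hom) (hGp : LocallyOfFinitePresentation G.hom) :
    AlgSt.RepByAlgSpWith (AlgSp.RepWith @IsAffineHom) (FibCat.diag (FibCat.toSelf (AlgSt.BG K₀ G))) := by
  rw [← isAffineMor_eq]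
  refine repWith_diag_affine le_rfl hG hGf hGp ?_
  have : Mono (𝟙_ (Over S)).hom := inferInstanceAs (Mono (𝟙 S))
  infer_instance

/-- Frames on the two opens agreeing on the overlap, for localisations. -/
theorem exists_triv_of_away
    {hinv : aX.act.left ⁻¹ᵁ pairOpen a b = (snd (ThetaS.Gm R) (CoactBr.sp R B)).left ⁻¹ᵁ pairOpen a b}
    {F : AlgSt.fullSub (ThetaS.overS h (AlgSt.QuotSt K₀ (ThetaS.Gm R) aX))
      (Lands (X := CoactBr.sp R B) (pairOpen a b)) ⥤ᵇ AlgSt.BG K₀ G}
    (C : GmSMul aX) {Aa Ab A₂ : Type u} [CommRing Aa] [Algebra R Aa] [CommRing Ab] [Algebra R Ab] [CommRing A₂]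
    [Algebra R A₂] [Algebra B Aa] [IsScalarTower R B Aa] [IsLocalization.Away a Aa] [Algebra B Ab]
    [IsScalarTower R B Ab] [IsLocalization.Away b Ab] [Algebra Aa A₂]
    [IsLocalization.Away (algebraMap B Aa b) A₂] (ψa : Aa →ₐ[R] A₂) (hψa : ψa.toRingHom = algebraMap Aa A₂)
    (ψb : Ab →ₐ[R] A₂)
    (hψ : ψa.comp (IsScalarTower.toAlgHom R B Aa) = ψb.comp (IsScalarTower.toAlgHom R B Ab))
    (ha : LandsA a b (IsScalarTower.toAlgHom R B Aa)) (hb : LandsA a b (IsScalarTower.toAlgHom R B Ab))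
    (h₂ : LandsA a b (ψa.comp (IsScalarTower.toAlgHom R B Aa)))
    (τa : Frame hinv F (IsScalarTower.toAlgHom R B Aa) ha) (τb : Frame hinv F (IsScalarTower.toAlgHom R B Ab) hb)
    (hag : τa.pull C (hx' := h₂) ψa 1 (C.smul_one _) =
      τb.pull C (hx' := h₂) ψb 1 ((C.smul_one _).trans hψ.symm)) :
    ∃ τ : trivTors (G := G) ((Over.map h).obj (H13AlgSp.openOver (CoactBr.sp R B) (pairOpen a b))) ⟶
        F.obj ⟨_, lands_openIncl hinv⟩,
      (AlgSt.BG K₀ G).p.IsHomLift (𝟙 ((Over.map h).obj (H13AlgSp.openOver (CoactBr.sp R B) (pairOpen a b)))) τ := by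
  have : IsOpenImmersion (Spec.map (CommRingCat.ofHom (IsScalarTower.toAlgHom R B Aa).toRingHom)) :=
    IsOpenImmersion.of_isLocalization (S := Aa) a
  have : IsOpenImmersion (Spec.map (CommRingCat.ofHom (IsScalarTower.toAlgHom R B Ab).toRingHom)) :=
    IsOpenImmersion.of_isLocalization (S := Ab) b
  refine exists_triv_of_frames C (IsScalarTower.toAlgHom R B Aa) (IsScalarTower.toAlgHom R B Ab) ψa ψb hψ
    (fun p hp => ?_) ?_ ha hb h₂ τa τb hag _
  · rcases hp with hp | hp
    · rw [SetLike.mem_coe, basicOpen_eq_of_affine', Iso.inv_hom_id_apply] at hp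
      exact Or.inl ((PrimeSpectrum.localization_away_comap_range Aa a).ge hp)
    · rw [SetLike.mem_coe, basicOpen_eq_of_affine', Iso.inv_hom_id_apply] at hp
      exact Or.inr ((PrimeSpectrum.localization_away_comap_range Ab b).ge hp)
  · rw [hψa]
    have : IsLocalization ((Submonoid.powers b).map (algebraMap B Aa)) A₂ := by
      rw [Submonoid.map_powers]
      infer_instance
    refine CommRingCat.isPushout_of_isLocalization (algebraMap B Aa) ψb.toRingHom ?_ (Submonoid.powers b)
    rw [← hψa]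
    exact congrArg AlgHom.toRingHom hψ.symm

end Groth.Agent.H14GL
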