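import Groth.Prelude.Def_FrameBundle
import Groth.Prelude.Def_CoactBr
import Groth.Agent.H21Diag.Points
import Groth.Agent.H14Ga.Torsor

/-!
# Points of the general linear group over a base as invertible matrices of functions
-/

set_option autoImplicit false
set_option linter.unusedVariables false
set_option backward.isDefEq.respectTransparency false
set_option backward.isDefEq.respectTransparency.types false

universe u

open CategoryTheory CategoryTheory.Limits MonoidalCategory CartesianMonoidalCategory MonObj GrpObj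
open AlgebraicGeometry
open scoped TensorProduct

noncomputable section

namespace Groth.Agent.H14GL

open H21Diag

variable {S : Scheme.{u}} {n : ℕ}

/-- The base ring of the integral group. -/
abbrev ZU : Type u := ULift.{u} ℤ

attribute [local instance 2000] Hom.group Hom.monoid

/-- The universal invertible matrix. -/
def univ (n : ℕ) : GL (Fin n) (CoordGrp.GLn n (ULift.{u} ℤ)) :=
  (((Matrix.isUnit_iff_isUnit_det _).2
    (IsUnit.of_mul_eq_one _ (by rw [← CoordGrp.GLn.det_eq]; exact CoordGrp.GLn.det_mul_Dinv))) :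
      IsUnit (CoordGrp.GLn.genMat n (ULift.{u} ℤ))).unit

lemma univ_coe : ((univ n : GL (Fin n) (CoordGrp.GLn n ZU.{u})) : Matrix (Fin n) (Fin n) _) =
    CoordGrp.GLn.genMat n ZU.{u} := rfl

/-- The integral base ring maps uniquely to any ring. -/
lemma zu_hom_ext {B : Type u} [CommRing B] (f g : ZU.{u} →+* B) (r : ZU.{u}) : f r = g r :=
  RingHom.congr_fun (RingHom.ext_int (f.comp (ULift.ringEquiv (R := ℤ)).symm.toRingHom)
    (g.comp (ULift.ringEquiv (R := ℤ)).symm.toRingHom)) r.down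

/-- The product of two points, entry by entry. -/
lemma exists_pt_mul {R B : Type u} [CommRing R] [CommRing B] [Algebra R B] (e f : CoordGrp.GLn n R →ₐ[R] B) :
    ∃ c : CoordGrp.GLn n R →ₐ[R] B, CoactBr.pt e * CoactBr.pt f = CoactBr.pt c ∧
      ∀ i j, c (CoordGrp.GLn.X i j) = ∑ l, e (CoordGrp.GLn.X i l) * f (CoordGrp.GLn.X l j) := by
  refine ⟨_, CoactBr.pt_mul_pt e f, fun i j => ?_⟩
  change Algebra.TensorProduct.lift e f (fun _ _ => .all _ _) (CoalgebraStruct.comul (CoordGrp.GLn.X i j)) = _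
  rw [CoordGrp.GLn.comul_X, map_sum]
  simp

/-- A map out of the coordinate ring is determined by the entries. -/
lemma coordHom_ext {B : Type u} [CommRing B] {f g : CoordGrp.GLn n ZU.{u} →+* B}
    (h : ∀ i j, f (CoordGrp.GLn.X i j) = g (CoordGrp.GLn.X i j)) : f = g := by
  letI := algZ B
  have hZ : ∀ (φ : CoordGrp.GLn n ZU.{u} →+* B) (r : ZU.{u}), φ (algebraMap ZU.{u} _ r) = algebraMap ZU.{u} B r :=
    fun φ r => zu_hom_ext (φ.comp (algebraMap ZU.{u} _)) _ r
  let f' : CoordGrp.GLn n ZU.{u} →ₐ[ZU.{u}] B := { f with commutes' := hZ f }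
  let g' : CoordGrp.GLn n ZU.{u} →ₐ[ZU.{u}] B := { g with commutes' := hZ g }
  have hdet : f' CoordGrp.GLn.det = g' CoordGrp.GLn.det := by
    rw [CoordGrp.GLn.det_eq, AlgHom.map_det, AlgHom.map_det]
    congr 1
    exact Matrix.ext h
  have hD : f' CoordGrp.GLn.Dinv = g' CoordGrp.GLn.Dinv := by
    calc f' CoordGrp.GLn.Dinv = f' CoordGrp.GLn.Dinv * g' (CoordGrp.GLn.det * CoordGrp.GLn.Dinv) := by
          rw [CoordGrp.GLn.det_mul_Dinv, map_one, _root_.mul_one]
      _ = f' (CoordGrp.GLn.Dinv * CoordGrp.GLn.det) * g' CoordGrp.GLn.Dinv := by rw [map_mul, map_mul, ← hdet]; ring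
      _ = g' CoordGrp.GLn.Dinv := by rw [CoordGrp.GLn.Dinv_mul_det, map_one, _root_.one_mul]
  have : f' = g' := CoordGrp.GLn.algHom_ext h hD
  exact congrArg AlgHom.toRingHom this

/-- The invertible matrix of functions of a point. -/
def mat {Z : Over S} (x : Z ⟶ FrB.GLn n S) : GL (Fin n) Γ(Z.left, ⊤) :=
  Matrix.GeneralLinearGroup.map (H14Ga.pt (x.left ≫ pullback.fst _ _)) (univ n)

lemma mat_comp {Z' Z : Over S} (f : Z' ⟶ Z) (x : Z ⟶ FrB.GLn n S) :
    mat (f ≫ x) = Matrix.GeneralLinearGroup.map f.left.appTop.hom (mat x) := by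
  apply Units.ext
  ext i j
  change H14Ga.pt ((f ≫ x).left ≫ pullback.fst _ _) _ = f.left.appTop.hom (H14Ga.pt (x.left ≫ pullback.fst _ _) _)
  rw [Over.comp_left, Category.assoc]
  rfl

lemma mat_ext {Z : Over S} {x y : Z ⟶ FrB.GLn n S} (h : mat x = mat y) : x = y := by
  refine bc_ext (H14Ga.pt_ext (coordHom_ext fun i j => ?_))
  exact congrArg (fun m : Matrix (Fin n) (Fin n) Γ(Z.left, ⊤) => m i j) (congrArg (fun g : GL (Fin n) Γ(Z.left, ⊤) => g.val) h)

/-- The point given by an invertible matrix of functions. -/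
theorem exists_mat {Z : Over S} (g : GL (Fin n) Γ(Z.left, ⊤)) : ∃ x : Z ⟶ FrB.GLn n S, mat x = g := by
  letI := algZ Γ(Z.left, ⊤)
  let φ : CoordGrp.GLn n ZU.{u} →ₐ[ZU.{u}] Γ(Z.left, ⊤) :=
    CoordGrp.GLn.pt n ZU.{u} ((g : GL (Fin n) Γ(Z.left, ⊤)) : Matrix (Fin n) (Fin n) Γ(Z.left, ⊤)) ((g⁻¹ : GL (Fin n) Γ(Z.left, ⊤)) : Matrix (Fin n) (Fin n) _).det
      ((Matrix.det_mul _ _).symm.trans ((congrArg Matrix.det g.mul_inv).trans Matrix.det_one))
  let x : Z ⟶ FrB.GLn n S := Over.homMk (pullback.lift (H14Ga.toSp φ.toRingHom) Z.hom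
    (specULiftZIsTerminal.hom_ext _ _)) (pullback.lift_snd _ _ _)
  refine ⟨x, Units.ext (Matrix.ext fun i j => ?_)⟩
  change H14Ga.pt (pullback.lift _ _ _ ≫ pullback.fst _ _) (CoordGrp.GLn.X i j) = _
  rw [pullback.lift_fst, H14Ga.pt_toSp]
  exact CoordGrp.GLn.pt_X _ _ _ i j

lemma mat_mul {Z : Over S} (x y : Z ⟶ FrB.GLn n S) : mat (x * y) = mat x * mat y := by
  let t := IsTerminal.from specULiftZIsTerminal S
  let B := Γ(Z.left, ⊤)
  letI := algZ B
  let W := (Over.map t).obj Z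
  let q : W ⟶ CoactBr.sp ZU.{u} B := Over.homMk Z.left.toSpecΓ (specULiftZIsTerminal.hom_ext _ _)
  let e : (Z ⟶ FrB.GLn n S) → (CoordGrp.GLn n ZU.{u} →ₐ[ZU.{u}] B) := fun z =>
    { H14Ga.pt (z.left ≫ pullback.fst _ _) with
      commutes' := fun r => zu_hom_ext ((H14Ga.pt (z.left ≫ pullback.fst _ _)).comp (algebraMap ZU.{u} _)) _ r }
  have hfst : ∀ z : Z ⟶ FrB.GLn n S, ((bcEquiv t (FrB.GLZ n) Z).symm z).left = z.left ≫ pullback.fst _ _ := fun z => by
    rw [← bcEquiv_left_fst, Equiv.apply_symm_apply]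
  have hz : ∀ z : Z ⟶ FrB.GLn n S, (bcEquiv t (FrB.GLZ n) Z).symm z = q ≫ CoactBr.pt (e z) := fun z => by
    refine Over.OverMorphism.ext ?_
    rw [hfst]
    exact H14Ga.pt_ext (H14Ga.pt_toSp (e z).toRingHom).symm
  obtain ⟨c, hc, hcX⟩ := exists_pt_mul (e x) (e y)
  have hmul : (bcEquiv t (FrB.GLZ n) Z).symm (x * y) = q ≫ CoactBr.pt c := by
    rw [← hc, MonObj.comp_mul, ← hz, ← hz]
    exact bcEquiv_symm_mul _ _ _ _ _
  apply Units.ext
  ext i j
  rw [Units.val_mul, Matrix.mul_apply]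
  change H14Ga.pt ((x * y).left ≫ pullback.fst _ _) (CoordGrp.GLn.X i j) = _
  rw [← hfst, hmul]
  exact (RingHom.congr_fun (H14Ga.pt_toSp _) (CoordGrp.GLn.X i j)).trans (hcX i j)

/-- The points of a group object are the invertible matrices of functions. -/
structure MatPts (G : Over S) [GrpObj G] (n : ℕ) where
  /-- the matrix of a point -/
  mat : ∀ {Z : Over S}, (Z ⟶ G) → GL (Fin n) Γ(Z.left, ⊤)
  mul : ∀ {Z : Over S} (x y : Z ⟶ G), mat (x * y) = mat x * mat y
  nat : ∀ {Z' Z : Over S} (f : Z' ⟶ Z) (x : Z ⟶ G),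
    mat (f ≫ x) = Matrix.GeneralLinearGroup.map f.left.appTop.hom (mat x)
  bij : ∀ (Z : Over S), Function.Bijective (mat (Z := Z))

/-- The points of the general linear group are the invertible matrices. -/
def glnPts (n : ℕ) (S : Scheme.{u}) : MatPts (FrB.GLn n S) n where
  mat x := mat x
  mul := mat_mul
  nat := mat_comp
  bij _ := ⟨fun _ _ => mat_ext, exists_mat⟩

namespace MatPts

variable {G : Over S} [GrpObj G] (P : MatPts G n)

lemma one (Z : Over S) : P.mat (1 : Z ⟶ G) = 1 :=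
  mul_eq_left.mp ((P.mul _ _).symm.trans (congrArg P.mat (_root_.mul_one (1 : Z ⟶ G))))

lemma inv {Z : Over S} (x : Z ⟶ G) : P.mat x⁻¹ = (P.mat x)⁻¹ :=
  eq_inv_of_mul_eq_one_left ((P.mul _ _).symm.trans ((congrArg P.mat (inv_mul_cancel x)).trans (P.one Z)))

/-- The point with a given matrix. -/
def point {Z : Over S} (g : GL (Fin n) Γ(Z.left, ⊤)) : Z ⟶ G := ((P.bij Z).2 g).choose

lemma mat_point {Z : Over S} (g : GL (Fin n) Γ(Z.left, ⊤)) : P.mat (P.point g) = g := ((P.bij Z).2 g).choose_spec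

lemma ext {Z : Over S} {x y : Z ⟶ G} (h : P.mat x = P.mat y) : x = y := (P.bij Z).1 h

end MatPts

end Groth.Agent.H14GL
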