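import Groth.Agent.H14Lift.QuotGood
import Groth.Agent.H14Quot.NeutralBG
import Groth.Agent.H14Quot.InducedQuot
import Groth.Agent.H14AlgSt.SubstackGen

/-!
# Extending functors from an invariant open of a quotient stack into a classifying stack

A functor into `BG`, for affine `G`, from the part of `[X/G₁]` over an invariant open `U` on which the torsor is
trivial is given by a cocycle on the preimage of `U` in `G₁ × X`; when functions extend from there, so does the functor.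
-/

set_option autoImplicit false
set_option linter.unusedVariables false
set_option backward.isDefEq.respectTransparency false
set_option backward.isDefEq.respectTransparency.types false

universe u

open CategoryTheory CategoryTheory.Functor CategoryTheory.Limits MonoidalCategory CartesianMonoidalCategory MonObj GrpObj
open AlgebraicGeometry Opposite

noncomputable section

namespace Groth.Agent.H14GL

open H14Fib H14Stk H14AlgSt H14Quot H14Lift

variable {S S' : Scheme.{u}} {h : S' ⟶ S} {G₁ : Over S'} [GrpObj G₁] {X : Over S'} {aX : AlgGrp.Action G₁ X}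
  {G : Over S} [GrpObj G] {U : X.left.Opens}

local notation "K₀" => Scheme.fppfPrecoverage

variable (hinv : aX.act.left ⁻¹ᵁ U = (snd G₁ X).left ⁻¹ᵁ U)

include hinv in
/-- A trivial torsor lands in the open exactly when its point does. -/
lemma lands_triv_iff {Z : Over S'} (z : Z ⟶ X) : Lands U (triv K₀ G₁ aX z) ↔ ∀ s, z.left s ∈ U :=
  lands_iff_of_hom hinv (𝟙 (triv K₀ G₁ aX z))

section Elt

variable {Z'' Z' Z : Over S'} {z'' : Z'' ⟶ X} {z' : Z' ⟶ X} {z : Z ⟶ X}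

/-- The morphism of trivial torsors over a morphism of points. -/
def overHom (t : Z' ⟶ Z) (ht : t ≫ z = z') : triv K₀ G₁ aX z' ⟶ triv K₀ G₁ aX z :=
  quotHom 1 t (by rw [ht]; exact AlgGrp.Action.lift_one_act aX _)

lemma overHom_base (t : Z' ⟶ Z) (ht : t ≫ z = z') : quotBase (overHom (aX := aX) t ht) = t :=
  quotBase_quotHom _ _ _

lemma overHom_elt (t : Z' ⟶ Z) (ht : t ≫ z = z') : quotElt (overHom (aX := aX) t ht) = 1 :=
  quotElt_quotHom _ _ _

lemma quotBase_comp (α : triv K₀ G₁ aX z'' ⟶ triv K₀ G₁ aX z') (β : triv K₀ G₁ aX z' ⟶ triv K₀ G₁ aX z) :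
    quotBase (α ≫ β) = quotBase α ≫ quotBase β := rfl

lemma overHom_id : overHom (aX := aX) (𝟙 Z) (Category.id_comp z) = 𝟙 _ :=
  quot_ext (overHom_base _ _) ((overHom_elt _ _).trans quotElt_id.symm)

end Elt

/-- The morphism of trivial torsors with a given element. -/
def eltHom {T' T : Over S} (g : T' ⟶ G) (t : T' ⟶ T) : trivTors (G := G) T' ⟶ trivTors T :=
  homOfSec (lift g t : T' ⟶ G ⊗ T) (toUnit_unique _ _)

lemma eltHom_base {T' T : Over S} (g : T' ⟶ G) (t : T' ⟶ T) : (eltHom g t).base = t := lift_snd _ _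

lemma gpElt_eltHom {T' T : Over S} (g : T' ⟶ G) (t : T' ⟶ T) : gpElt (eltHom g t) = g := by
  rw [gpElt, eltHom, secOfHom_homOfSec, lift_fst]

lemma trivTors_ext {T' T : Over S} {a b : trivTors (G := G) T' ⟶ trivTors T} (hb : a.base = b.base)
    (hg : gpElt a = gpElt b) : a = b := by
  rw [← homOfSec_secOfHom a, ← homOfSec_secOfHom b]
  congr 1
  rw [secOfHom_triv a, secOfHom_triv b, hb, hg]

lemma isHomLift_triv {T' T : Over S} {t : T' ⟶ T} {a : trivTors (G := G) T' ⟶ trivTors T} (ha : a.base = t) :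
    (AlgSt.BG K₀ G).p.IsHomLift t a :=
  IsHomLift.of_fac' _ _ _ rfl rfl (by subst ha; simp; rfl)

lemma base_of_isHomLift {T' T : Over S} {t : T' ⟶ T} {a : trivTors (G := G) T' ⟶ trivTors T}
    (ha : (AlgSt.BG K₀ G).p.IsHomLift t a) : a.base = t :=
  (@IsHomLift.eq_of_isHomLift _ _ _ _ (AlgSt.BG K₀ G).p (trivTors T') (trivTors T) t a ha).symm

/-- Two-morphisms into the base are unique. -/
lemma selfHom_ext {ℬ : AlgSt.Cat S} {F F' : ℬ ⥤ᵇ FibCat.selfOver (Over S)} (u v : F ⟶ F') : u = v :=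
  hom_ext fun b => by
    have h1 : (FibCat.selfOver (Over S)).p.IsHomLift (𝟙 (ℬ.p.obj b)) (app u b) := BasedNatTrans.isHomLift u rfl
    have h2 : (FibCat.selfOver (Over S)).p.IsHomLift (𝟙 (ℬ.p.obj b)) (app v b) := BasedNatTrans.isHomLift v rfl
    have e1 := @IsHomLift.fac' _ _ _ _ _ _ _ _ _ (𝟙 (ℬ.p.obj b)) (app u b) h1
    have e2 := @IsHomLift.fac' _ _ _ _ _ _ _ _ _ (𝟙 (ℬ.p.obj b)) (app v b) h2
    exact e1.trans e2.symm

/-- All functors to the base over it are the structure functor. -/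
lemma self_eq {ℬ : AlgSt.Cat S} (F F' : ℬ ⥤ᵇ FibCat.selfOver (Over S)) : F = F' := by
  obtain ⟨F, hF⟩ := F
  obtain ⟨F', hF'⟩ := F'
  obtain rfl : F = F' := ((CategoryTheory.Functor.comp_id F).symm.trans hF).trans
    ((CategoryTheory.Functor.comp_id F').symm.trans hF').symm
  rfl

variable (F : AlgSt.fullSub (ThetaS.overS h (AlgSt.QuotSt K₀ G₁ aX)) (Lands U) ⥤ᵇ AlgSt.BG K₀ G)
  {U' : Over S'} {j : U' ⟶ X} (hU : Lands U (triv K₀ G₁ aX j))

variable (aX U) in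
/-- The points landing in the open. -/
abbrev LandsPt : Type (u + 1) := {c : Over X // Lands U (triv K₀ G₁ aX c.hom)}

/-- The element of the group attached by the functor to morphisms between points of the open, with its properties. -/
theorem exists_localCocycle [Mono j]
    (hj : ∀ {Z : Over S'} (z : Z ⟶ X), Lands U (triv K₀ G₁ aX z) → ∃ l : Z ⟶ U', l ≫ j = z)
    (τ₀ : trivTors (G := G) ((Over.map h).obj U') ⟶ F.obj ⟨_, hU⟩)
    (hτ₀ : (AlgSt.BG K₀ G).p.IsHomLift (𝟙 ((Over.map h).obj U')) τ₀) :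
    ∃ (cF : ∀ {c' c : LandsPt aX U}, (triv K₀ G₁ aX c'.1.hom ⟶ triv K₀ G₁ aX c.1.hom) →
        ((Over.map h).obj c'.1.left ⟶ G))
      (τ : ∀ c : LandsPt aX U, trivTors (G := G) ((Over.map h).obj c.1.left) ⟶ F.obj ⟨_, c.2⟩),
      (∀ c : LandsPt aX U, (AlgSt.BG K₀ G).p.IsHomLift (𝟙 ((Over.map h).obj c.1.left)) (τ c)) ∧
      (∀ {c'' c' c : LandsPt aX U} (α : triv K₀ G₁ aX c''.1.hom ⟶ triv K₀ G₁ aX c'.1.hom)
        (β : triv K₀ G₁ aX c'.1.hom ⟶ triv K₀ G₁ aX c.1.hom),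
        cF (α ≫ β) = cF α * ((Over.map h).map (quotBase α) ≫ cF β)) ∧
      (∀ {c' c : LandsPt aX U} (α : triv K₀ G₁ aX c'.1.hom ⟶ triv K₀ G₁ aX c.1.hom), quotElt α = 1 → cF α = 1) ∧
      ∀ {c' c : LandsPt aX U} (α : triv K₀ G₁ aX c'.1.hom ⟶ triv K₀ G₁ aX c.1.hom),
        eltHom (cF α) ((Over.map h).map (quotBase α)) ≫ τ c =
          τ c' ≫ F.map (ObjectProperty.homMk α :
            (⟨_, c'.2⟩ : (AlgSt.fullSub (ThetaS.overS h (AlgSt.QuotSt K₀ G₁ aX)) (Lands U)).obj) ⟶ ⟨_, c.2⟩) := by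
  let m := Over.map h
  let ℬ := ThetaS.overS h (AlgSt.QuotSt K₀ G₁ aX)
  let 𝒬 := AlgSt.fullSub ℬ (Lands (aX := aX) U)
  let ℬG := AlgSt.BG K₀ G
  have hBG : FibCat.IsFibGrpd ℬG.p := quotSt_fibGrpd
  let Idx := LandsPt aX U
  have hfac : ∀ c : Idx, ∃ l : c.1.left ⟶ U', l ≫ j = c.1.hom := fun c => hj c.1.hom c.2
  choose l hl using hfac
  let mz : ∀ c : Idx, (⟨_, c.2⟩ : 𝒬.obj) ⟶ ⟨_, hU⟩ := fun c => ObjectProperty.homMk (overHom (l c) (hl c))
  have hmz : ∀ c : Idx, ℬG.p.IsHomLift (m.map (l c)) (F.map (mz c)) := fun c => by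
    refine @BasedFunctor.preserves_isHomLift _ _ _ _ F _ _ _ _ _ _ ?_
    refine IsHomLift.of_fac' _ _ _ rfl rfl ?_
    change m.map (quotBase (overHom (l c) (hl c))) = _
    rw [overHom_base]
    simp
  have hτz : ∀ c : Idx, ∃ t : trivTors (G := G) (m.obj c.1.left) ⟶ F.obj ⟨_, c.2⟩,
      ℬG.p.IsHomLift (𝟙 (m.obj c.1.left)) t ∧ t ≫ F.map (mz c) = eltHom 1 (m.map (l c)) ≫ τ₀ := fun c => by
    have := hmz c
    have := sc_of_fibGrpd hBG (m.map (l c)) (F.map (mz c))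
    have hc : ℬG.p.IsHomLift (m.map (l c) ≫ 𝟙 _) (eltHom 1 (m.map (l c)) ≫ τ₀) :=
      homLift_comp' (isHomLift_triv (eltHom_base _ _)) hτ₀
    rw [Category.comp_id] at hc
    exact (IsStronglyCartesian.universal_property ℬG.p (m.map (l c)) (F.map (mz c)) (𝟙 _)
      (m.map (l c)) (Category.id_comp _).symm (eltHom 1 (m.map (l c)) ≫ τ₀)).exists
  choose τ hτl hτe using hτz
  have hτi : ∀ c, IsIso (τ c) := fun c =>
    haveI := hτl c
    isIso_of_fibGrpd hBG (𝟙 (m.obj c.1.left)) (τ c)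
  -- the transported functor
  let e : ∀ {c' c : Idx}, (triv K₀ G₁ aX c'.1.hom ⟶ triv K₀ G₁ aX c.1.hom) →
      (trivTors (G := G) (m.obj c'.1.left) ⟶ trivTors (m.obj c.1.left)) := fun {c' c} α =>
    τ c' ≫ F.map (ObjectProperty.homMk α : (⟨_, c'.2⟩ : 𝒬.obj) ⟶ ⟨_, c.2⟩) ≫ inv (τ c)
  have hebase : ∀ {c' c : Idx} (α : triv K₀ G₁ aX c'.1.hom ⟶ triv K₀ G₁ aX c.1.hom),
      (e α).base = m.map (quotBase α) := fun {c' c} α => by
    haveI := hτl c
    have hi : ℬG.p.IsHomLift (𝟙 (m.obj c.1.left)) (inv (τ c)) := IsHomLift.lift_id_inv_isIso ℬG.p _ (τ c)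
    have hm : 𝒬.p.IsHomLift (m.map (quotBase α))
        (ObjectProperty.homMk α : (⟨_, c'.2⟩ : 𝒬.obj) ⟶ ⟨_, c.2⟩) :=
      IsHomLift.of_fac' _ _ _ rfl rfl (by simp; rfl)
    have := homLift_comp' (hτl c') (homLift_comp'
      (@BasedFunctor.preserves_isHomLift _ _ _ _ F _ _ _ _ _ _ hm) hi)
    rw [Category.id_comp, Category.comp_id] at this
    exact base_of_isHomLift this
  have hecomp : ∀ {c'' c' c : Idx} (α : triv K₀ G₁ aX c''.1.hom ⟶ triv K₀ G₁ aX c'.1.hom)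
      (β : triv K₀ G₁ aX c'.1.hom ⟶ triv K₀ G₁ aX c.1.hom), e (α ≫ β) = e α ≫ e β := fun {c'' c' c} α β => by
    simp only [e, Category.assoc, IsIso.inv_hom_id_assoc]
    rw [← reassoc_of% F.toFunctor.map_comp]
    rfl
  let cF : ∀ {c' c : Idx}, (triv K₀ G₁ aX c'.1.hom ⟶ triv K₀ G₁ aX c.1.hom) → (m.obj c'.1.left ⟶ G) :=
    fun α => gpElt (e α)
  have hcomp : ∀ {c'' c' c : Idx} (α : triv K₀ G₁ aX c''.1.hom ⟶ triv K₀ G₁ aX c'.1.hom)
      (β : triv K₀ G₁ aX c'.1.hom ⟶ triv K₀ G₁ aX c.1.hom),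
      cF (α ≫ β) = cF α * (m.map (quotBase α) ≫ cF β) := fun α β => by
    change gpElt (e (α ≫ β)) = _
    rw [hecomp, gpElt_comp, hebase]
  let c₀ : Idx := ⟨Over.mk j, hU⟩
  have hτ₀i : IsIso τ₀ := isIso_of_fibGrpd hBG (𝟙 (m.obj U')) τ₀
  have hl₀ : l c₀ = 𝟙 U' := by rw [← cancel_mono j, hl]; exact (Category.id_comp _).symm
  have hτc₀ : τ c₀ = τ₀ := by
    have h1 := hτe c₀
    have h2 : mz c₀ = 𝟙 _ := by
      apply ObjectProperty.hom_ext
      exact quot_ext ((overHom_base (l c₀) (hl c₀)).trans hl₀) ((overHom_elt (l c₀) (hl c₀)).trans quotElt_id.symm)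
    have h3 : eltHom (1 : m.obj U' ⟶ G) (m.map (l c₀)) = 𝟙 _ := by
      refine trivTors_ext ?_ ((gpElt_eltHom _ _).trans (gpElt_id _).symm)
      rw [eltHom_base, hl₀, m.map_id]
      rfl
    rw [h2, F.toFunctor.map_id, Category.comp_id] at h1
    exact h1.trans (by erw [h3, Category.id_comp])
  have hcmz : ∀ c : Idx, cF (c' := c) (c := c₀) (overHom (l c) (hl c)) = 1 := fun c => by
    change gpElt (τ c ≫ F.map (mz c) ≫ inv (τ c₀)) = 1
    rw [← Category.assoc, hτe, Category.assoc]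
    have : τ₀ ≫ inv (τ c₀) = 𝟙 _ := by
      rw [IsIso.comp_inv_eq, Category.id_comp, hτc₀]
    rw [this, Category.comp_id, gpElt_eltHom]
  have hone : ∀ {c' c : Idx} (α : triv K₀ G₁ aX c'.1.hom ⟶ triv K₀ G₁ aX c.1.hom), quotElt α = 1 → cF α = 1 :=
    fun {c' c} α hα => by
      have hb : quotBase α ≫ c.1.hom = c'.1.hom := by
        have := quot_rel α
        rwa [hα, AlgGrp.Action.lift_one_act] at this
      have e1 : α ≫ overHom (l c) (hl c) = overHom (l c') (hl c') := by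
        refine quot_ext ?_ ?_
        · rw [quotBase_comp, overHom_base, overHom_base, ← cancel_mono j, Category.assoc, hl, hl, hb]
        · rw [quotElt_comp, overHom_elt, overHom_elt, MonObj.comp_one, _root_.mul_one, hα]
      have h3 := congrArg (cF (c' := c') (c := c₀)) e1
      rwa [hcomp (c' := c) (c := c₀), hcmz, hcmz, MonObj.comp_one, _root_.mul_one] at h3
  refine ⟨cF, τ, hτl, hcomp, hone, fun {c' c} α => ?_⟩
  rw [show eltHom (cF α) (m.map (quotBase α)) = e α from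
    trivTors_ext ((eltHom_base _ _).trans (hebase α).symm) (gpElt_eltHom _ _)]
  simp [e]

include hinv in
/-- A cocycle on the open extends to all points when functions do. -/
theorem exists_globalCocycle (cF : ∀ {c' c : LandsPt aX U}, (triv K₀ G₁ aX c'.1.hom ⟶ triv K₀ G₁ aX c.1.hom) →
      ((Over.map h).obj c'.1.left ⟶ G))
    (hcomp : ∀ {c'' c' c : LandsPt aX U} (α : triv K₀ G₁ aX c''.1.hom ⟶ triv K₀ G₁ aX c'.1.hom)
      (β : triv K₀ G₁ aX c'.1.hom ⟶ triv K₀ G₁ aX c.1.hom),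
      cF (α ≫ β) = cF α * ((Over.map h).map (quotBase α) ≫ cF β))
    (hone : ∀ {c' c : LandsPt aX U} (α : triv K₀ G₁ aX c'.1.hom ⟶ triv K₀ G₁ aX c.1.hom), quotElt α = 1 → cF α = 1)
    (hext : Function.Bijective (fun m : (Over.map h).obj (G₁ ⊗ X) ⟶ G =>
      (Over.map h).map (H13AlgSp.openIncl (G₁ ⊗ X) ((snd G₁ X).left ⁻¹ᵁ U)) ≫ m))
    (hinj : Function.Injective (fun m : (Over.map h).obj (G₁ ⊗ (G₁ ⊗ X)) ⟶ G =>
      (Over.map h).map (H13AlgSp.openIncl (G₁ ⊗ (G₁ ⊗ X)) ((snd G₁ (G₁ ⊗ X) ≫ snd G₁ X).left ⁻¹ᵁ U)) ≫ m)) :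
    ∃ C : ∀ {c' c : Over X}, (triv K₀ G₁ aX c'.hom ⟶ triv K₀ G₁ aX c.hom) → ((Over.map h).obj c'.left ⟶ G),
      (∀ {c'' c' c : Over X} (α : triv K₀ G₁ aX c''.hom ⟶ triv K₀ G₁ aX c'.hom)
        (β : triv K₀ G₁ aX c'.hom ⟶ triv K₀ G₁ aX c.hom),
        C (α ≫ β) = C α * ((Over.map h).map (quotBase α) ≫ C β)) ∧
      ∀ {c' c : LandsPt aX U} (α : triv K₀ G₁ aX c'.1.hom ⟶ triv K₀ G₁ aX c.1.hom), C α = cF α := by
  let m := Over.map h
  let Idx := LandsPt aX U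
  -- the universal morphism over the open
  let W := H13AlgSp.openOver (G₁ ⊗ X) ((snd G₁ X).left ⁻¹ᵁ U)
  let ω : W ⟶ G₁ ⊗ X := H13AlgSp.openIncl (G₁ ⊗ X) ((snd G₁ X).left ⁻¹ᵁ U)
  have hωr : ∀ s, ω.left s ∈ (snd G₁ X).left ⁻¹ᵁ U := fun s => ((snd G₁ X).left ⁻¹ᵁ U).range_ι.le ⟨s, rfl⟩
  let cy : Idx := ⟨Over.mk (ω ≫ aX.act), (lands_triv_iff hinv _).2 fun s =>
    (hinv.ge (hωr s) : ω.left s ∈ aX.act.left ⁻¹ᵁ U)⟩
  let cx : Idx := ⟨Over.mk (ω ≫ snd G₁ X), (lands_triv_iff hinv _).2 fun s => hωr s⟩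
  let αu : triv K₀ G₁ aX cy.1.hom ⟶ triv K₀ G₁ aX cx.1.hom := quotHom (ω ≫ fst G₁ X) (𝟙 W) (by
    change lift (ω ≫ fst G₁ X) (𝟙 W ≫ ω ≫ snd G₁ X) ≫ aX.act = ω ≫ aX.act
    rw [Category.id_comp, ← comp_lift_assoc, lift_fst_snd, Category.id_comp])
  obtain ⟨cT, hcT⟩ := hext.2 (cF αu)
  change m.map ω ≫ cT = cF αu at hcT
  -- the global cocycle
  let k : ∀ {c' c : Over X}, (triv K₀ G₁ aX c'.hom ⟶ triv K₀ G₁ aX c.hom) → (c'.left ⟶ G₁ ⊗ X) := fun {c' c} α =>
    lift (quotElt α) (quotBase α ≫ c.hom)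
  let C : ∀ {c' c : Over X}, (triv K₀ G₁ aX c'.hom ⟶ triv K₀ G₁ aX c.hom) → (m.obj c'.left ⟶ G) := fun α =>
    m.map (k α) ≫ cT
  have hCF : ∀ {c' c : Idx} (α : triv K₀ G₁ aX c'.1.hom ⟶ triv K₀ G₁ aX c.1.hom), C α = cF α := fun {c' c} α => by
    have hr : Set.range (k α).left ⊆ Set.range ((snd G₁ X).left ⁻¹ᵁ U).ι := by
      rintro _ ⟨s, rfl⟩
      refine ((snd G₁ X).left ⁻¹ᵁ U).range_ι.ge ?_
      change (k α ≫ snd G₁ X).left s ∈ U
      rw [lift_snd]
      exact (lands_triv_iff hinv _).1 c.2 _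
    let kW : c'.1.left ⟶ W := Over.homMk (IsOpenImmersion.lift _ (k α).left hr) (by
      change _ ≫ ((snd G₁ X).left ⁻¹ᵁ U).ι ≫ (G₁ ⊗ X).hom = _
      rw [IsOpenImmersion.lift_fac_assoc, Over.w])
    have hkW : kW ≫ ω = k α := Over.OverMorphism.ext (IsOpenImmersion.lift_fac _ _ hr)
    have hy : kW ≫ cy.1.hom = c'.1.hom := by
      change kW ≫ ω ≫ aX.act = _
      rw [← Category.assoc, hkW]
      exact quot_rel α
    let cz : Idx := ⟨Over.mk (quotBase α ≫ c.1.hom), (lands_triv_iff hinv _).2 fun s => by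
      exact (lands_triv_iff hinv _).1 c.2 _⟩
    let β : triv K₀ G₁ aX c'.1.hom ⟶ triv K₀ G₁ aX cz.1.hom := quotHom (quotElt α) (𝟙 _) (by
      rw [Category.id_comp]; exact quot_rel α)
    let γc : triv K₀ G₁ aX cz.1.hom ⟶ triv K₀ G₁ aX c.1.hom := overHom (quotBase α) rfl
    have hx : kW ≫ cx.1.hom = cz.1.hom := by
      change kW ≫ ω ≫ snd G₁ X = quotBase α ≫ c.1.hom
      rw [← Category.assoc, hkW, lift_snd]
    have h1 : α = β ≫ γc := by
      refine quot_ext ?_ ?_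
      · rw [quotBase_comp, quotBase_quotHom, overHom_base, Category.id_comp]
      · rw [quotElt_comp, quotElt_quotHom, overHom_elt, MonObj.comp_one, _root_.mul_one]
    let oy : triv K₀ G₁ aX c'.1.hom ⟶ triv K₀ G₁ aX cy.1.hom := overHom kW hy
    let ox : triv K₀ G₁ aX cz.1.hom ⟶ triv K₀ G₁ aX cx.1.hom := overHom kW hx
    have h2 : β ≫ ox = oy ≫ αu := by
      refine quot_ext ?_ ?_
      · rw [quotBase_comp, quotBase_comp, quotBase_quotHom, overHom_base, overHom_base, quotBase_quotHom,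
          Category.id_comp]
        exact (Category.comp_id _).symm
      · rw [quotElt_comp, quotElt_comp, quotElt_quotHom, overHom_elt, overHom_elt, overHom_base, quotElt_quotHom,
          MonObj.comp_one, _root_.mul_one, _root_.one_mul, ← Category.assoc, hkW, lift_fst]
    have h3 : cF (c' := c') (c := c) α = cF (c' := c') (c := cz) β := by
      rw [h1, hcomp (c' := cz), hone γc (overHom_elt _ _), MonObj.comp_one, _root_.mul_one]
    have h4 := congrArg (cF (c' := c') (c := cx)) h2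
    rw [hcomp (c' := cz), hcomp (c' := cy), hone ox (overHom_elt _ _), hone oy (overHom_elt _ _), MonObj.comp_one,
      _root_.mul_one, _root_.one_mul, overHom_base, ← hcT, ← Category.assoc, ← m.map_comp, hkW] at h4
    rw [h3, h4]
  -- the cocycle identity
  let T₃ := G₁ ⊗ (G₁ ⊗ X)
  let a : T₃ ⟶ G₁ := fst _ _
  let b : T₃ ⟶ G₁ := snd _ _ ≫ fst _ _
  let x : T₃ ⟶ X := snd _ _ ≫ snd _ _
  let bx : T₃ ⟶ X := lift b x ≫ aX.act
  have huniv : m.map (lift (a * b) x) ≫ cT = (m.map (lift a bx) ≫ cT) * (m.map (lift b x) ≫ cT) := by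
    apply hinj
    let V := (snd G₁ (G₁ ⊗ X) ≫ snd G₁ X).left ⁻¹ᵁ U
    let W₃ := H13AlgSp.openOver T₃ V
    let ω₃ : W₃ ⟶ T₃ := H13AlgSp.openIncl T₃ V
    change m.map ω₃ ≫ _ = m.map ω₃ ≫ _
    let c : Idx := ⟨Over.mk (ω₃ ≫ x), (lands_triv_iff hinv _).2 fun s => (V.range_ι.le ⟨s, rfl⟩ :)⟩
    let β := quotHom (aX := aX) (x := c.1.hom) (x' := lift (ω₃ ≫ b) c.1.hom ≫ aX.act) (ω₃ ≫ b) (𝟙 W₃)
      (by rw [Category.id_comp])
    let c' : Idx := ⟨Over.mk (lift (ω₃ ≫ b) c.1.hom ≫ aX.act), lands_of_hom β c.2⟩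
    let α := quotHom (aX := aX) (x := c'.1.hom) (x' := lift (ω₃ ≫ a) c'.1.hom ≫ aX.act) (ω₃ ≫ a) (𝟙 W₃)
      (by rw [Category.id_comp])
    let c'' : Idx := ⟨Over.mk (lift (ω₃ ≫ a) c'.1.hom ≫ aX.act), lands_of_hom α c'.2⟩
    have h1 : (show m.obj W₃ ⟶ G from C (c' := c''.1) (c := c.1) (α ≫ β)) =
        (show m.obj W₃ ⟶ G from C (c' := c''.1) (c := c'.1) α) *
          (show m.obj W₃ ⟶ G from m.map (𝟙 W₃) ≫ C (c' := c'.1) (c := c.1) β) := by
      change C (c' := c''.1) (c := c.1) (α ≫ β) = _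
      rw [hCF (c' := c'') (c := c), hCF (c' := c'') (c := c'), hCF (c' := c') (c := c), hcomp, quotBase_quotHom]
    have e1 : ω₃ ≫ lift (a * b) x = k (c' := c''.1) (c := c.1) (α ≫ β) := by
      change _ = lift (quotElt (α ≫ β)) (quotBase (α ≫ β) ≫ c.1.hom)
      rw [quotElt_comp, quotBase_comp, quotElt_quotHom, quotBase_quotHom, quotBase_quotHom, quotElt_quotHom,
        Category.id_comp, Category.id_comp, Category.id_comp, comp_lift, MonObj.comp_mul]
      rfl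
    have e2 : ω₃ ≫ lift a bx = k (c' := c''.1) (c := c'.1) α := by
      change _ = lift (quotElt α) (quotBase α ≫ c'.1.hom)
      rw [quotElt_quotHom, quotBase_quotHom, Category.id_comp, comp_lift, comp_lift_assoc]
      rfl
    have e3 : ω₃ ≫ lift b x = k (c' := c'.1) (c := c.1) β := by
      change _ = lift (quotElt β) (quotBase β ≫ c.1.hom)
      rw [quotElt_quotHom, quotBase_quotHom, Category.id_comp, comp_lift]
      rfl
    rw [MonObj.comp_mul, ← m.map_comp_assoc, ← m.map_comp_assoc, ← m.map_comp_assoc, e1, e2, e3]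
    rw [m.map_id, Category.id_comp] at h1
    exact h1
  have hCcomp : ∀ {c'' c' c : Over X} (α : triv K₀ G₁ aX c''.hom ⟶ triv K₀ G₁ aX c'.hom)
      (β : triv K₀ G₁ aX c'.hom ⟶ triv K₀ G₁ aX c.hom),
      C (α ≫ β) = C α * (m.map (quotBase α) ≫ C β) := fun {c'' c' c} α β => by
    let r : c''.left ⟶ T₃ := lift (quotElt α) (lift (quotBase α ≫ quotElt β) (quotBase α ≫ quotBase β ≫ c.hom))
    have ra : r ≫ a = quotElt α := lift_fst _ _
    have rb : r ≫ b = quotBase α ≫ quotElt β := by simp [r, b]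
    have rx : r ≫ x = quotBase α ≫ quotBase β ≫ c.hom := by simp [r, x]
    have e1 : r ≫ lift (a * b) x = k (α ≫ β) := by
      change _ = lift (quotElt (α ≫ β)) (quotBase (α ≫ β) ≫ c.hom)
      rw [comp_lift, MonObj.comp_mul, ra, rb, rx, quotElt_comp, quotBase_comp, Category.assoc]
    have e2 : r ≫ lift a bx = k α := by
      change _ = lift (quotElt α) (quotBase α ≫ c'.hom)
      rw [comp_lift, ra, comp_lift_assoc, rb, rx]
      congr 1
      rw [← comp_lift_assoc]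
      exact congrArg (quotBase α ≫ ·) (quot_rel β)
    have e3 : r ≫ lift b x = quotBase α ≫ k β := by
      change _ = quotBase α ≫ lift (quotElt β) (quotBase β ≫ c.hom)
      rw [comp_lift, rb, rx, comp_lift]
    have h1 := congrArg (m.map r ≫ ·) huniv
    simp only [MonObj.comp_mul, ← m.map_comp_assoc, e1, e2, e3] at h1
    rw [m.map_comp_assoc] at h1
    exact h1
  exact ⟨C, hCcomp, hCF⟩

include hinv in
open LiftSq in
/-- A functor into `BG` on the part over `U`, trivial on `U`, extends. -/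
theorem hasLift_BG [Mono j] (hG : IsAffineHom G.hom)
    (hj : ∀ {Z : Over S'} (z : Z ⟶ X), Lands U (triv K₀ G₁ aX z) → ∃ l : Z ⟶ U', l ≫ j = z)
    (hext : Function.Bijective (fun m : (Over.map h).obj (G₁ ⊗ X) ⟶ G =>
      (Over.map h).map (H13AlgSp.openIncl (G₁ ⊗ X) ((snd G₁ X).left ⁻¹ᵁ U)) ≫ m))
    (hinj : Function.Injective (fun m : (Over.map h).obj (G₁ ⊗ (G₁ ⊗ X)) ⟶ G =>
      (Over.map h).map (H13AlgSp.openIncl (G₁ ⊗ (G₁ ⊗ X)) ((snd G₁ (G₁ ⊗ X) ≫ snd G₁ X).left ⁻¹ᵁ U)) ≫ m))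
    (sq : Sq (AlgSt.subIncl (ThetaS.overS h (AlgSt.QuotSt K₀ G₁ aX)) (Lands U))
      (FibCat.toSelf (AlgSt.BG K₀ G)))
    (hτ : ∃ τ : trivTors (G := G) ((Over.map h).obj U') ⟶ sq.top.obj ⟨_, hU⟩,
      (AlgSt.BG K₀ G).p.IsHomLift (𝟙 ((Over.map h).obj U')) τ) : sq.HasLift := by
  obtain ⟨τ₀, hτ₀⟩ := hτ
  let m := Over.map h
  let ℬ := ThetaS.overS h (AlgSt.QuotSt K₀ G₁ aX)
  let 𝒬 := AlgSt.fullSub ℬ (Lands (aX := aX) U)
  let ℬG := AlgSt.BG K₀ G
  have hℬ : FibCat.IsFibGrpd ℬ.p := fibGrpd_comp _ _ quotSt_fibGrpd (fibGrpd_overMap h)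
  have h𝒬 : FibCat.IsFibGrpd 𝒬.p := fullSub_fibGrpd_of_hom (fun ψ hQ => lands_of_hom ψ hQ) hℬ
  let Idx := LandsPt aX U
  obtain ⟨cF, τ, hτl, hcomp, hone, hτn⟩ := exists_localCocycle (j := j) sq.top hU hj τ₀ hτ₀
  obtain ⟨C, hCcomp, hCF⟩ := exists_globalCocycle hinv cF hcomp hone hext hinj
  let P : Over X → ℬ.obj := fun c => triv K₀ G₁ aX c.hom
  let Q : Over X → ℬG.obj := fun c => trivTors (m.obj c.left)
  let Φ : HomMap P Q :=
    { map := fun {c' c} α => eltHom (C α) (m.map (quotBase α))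
      lift := fun {c' c} α {V W} g hg => by
        obtain rfl : m.obj c'.left = V := IsHomLift.domain_eq ℬ.p g α
        obtain rfl : m.obj c.left = W := IsHomLift.codomain_eq ℬ.p g α
        obtain rfl : g = m.map (quotBase α) := @IsHomLift.eq_of_isHomLift _ _ _ _ ℬ.p (P c') (P c) g α hg
        exact isHomLift_triv (eltHom_base _ _)
      map_id := fun c => by
        refine trivTors_ext ?_ ?_
        · rw [eltHom_base]
          exact m.map_id _
        · have h1 := hCcomp (𝟙 (P c)) (𝟙 (P c))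
          rw [Category.id_comp, show quotBase (𝟙 (P c)) = 𝟙 _ from rfl, m.map_id, Category.id_comp,
            left_eq_mul] at h1
          rw [gpElt_eltHom, gpElt_id]
          exact h1
      map_comp := fun {c'' c' c} α β => by
        refine trivTors_ext ?_ ?_
        · rw [eltHom_base, quotBase_comp, m.map_comp]
          exact (congrArg₂ (· ≫ ·) (eltHom_base _ _) (eltHom_base _ _)).symm
        · rw [gpElt_eltHom, gpElt_comp, gpElt_eltHom, gpElt_eltHom, eltHom_base, hCcomp] }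
  have hpull : PullStable P := fun c V W g hW => by
    subst hW
    obtain ⟨Z, ψ, hψ⟩ := (fibGrpd_overMap h).exists_lift (x := c.left) g
    obtain rfl : m.obj Z = V := IsHomLift.domain_eq m g ψ
    refine ⟨Over.mk (ψ ≫ c.hom), overHom ψ rfl, IsHomLift.of_fac' _ _ _ rfl rfl ?_⟩
    change m.map (quotBase (overHom ψ rfl)) = _
    rw [overHom_base, IsHomLift.eq_of_isHomLift m g ψ]
    simp
  have hloc : LocCovers (QuotSh.J K₀ S) P := fun A => by
    obtain ⟨R₀, hR₀, hs⟩ := A.loc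
    obtain ⟨κ, Z, g, rfl⟩ := Presieve.exists_eq_ofArrows R₀
    refine ⟨Sieve.ofArrows _ (fun i : κ =>
      m.map (Over.homMk (g i) rfl : Over.mk (g i ≫ A.base.hom) ⟶ A.base)),
      mem_J_of_family (U := ℬ.p.obj A) le_rfl hR₀ (fun i => ⟨_, 𝟙 _, _, ⟨i⟩, Category.id_comp _⟩), ?_⟩
    rintro V f ⟨W', q, _, ⟨i⟩, rfl⟩
    obtain ⟨s, hs₁⟩ := hs (g i) ⟨i⟩
    change s ≫ A.π.left = g i at hs₁
    obtain ⟨Z', ψ, hψ⟩ := (fibGrpd_overMap h).exists_lift q
    obtain rfl : m.obj Z' = V := IsHomLift.domain_eq m q ψ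
    let σ : Over.mk (g i ≫ A.base.hom) ⟶ A.P := Over.homMk s (by
      change s ≫ A.P.hom = g i ≫ A.base.hom
      rw [← hs₁, Category.assoc, Over.w A.π])
    refine ⟨Over.mk (ψ ≫ σ ≫ A.φ), homOfSec (ψ ≫ σ) (Category.assoc _ _ _), IsHomLift.of_fac' _ _ _ rfl rfl ?_⟩
    change m.map ((ψ ≫ σ) ≫ A.π) = _
    have hσ : σ ≫ A.π = Over.homMk (g i) rfl := Over.OverMorphism.ext hs₁
    rw [Category.assoc, hσ, m.map_comp, ← IsHomLift.eq_of_isHomLift m q ψ]
    simp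
  obtain ⟨fn, v, hvl, hvn⟩ := exists_extension hℬ (isStack_quotSt le_rfl hG) Φ hpull hloc
  -- the restriction agrees
  let P' : Idx → 𝒬.obj := fun c => ⟨P c.1, c.2⟩
  let Φ' : HomMap P' (fun c => Q c.1) :=
    { map := fun α => Φ.map α.hom
      lift := fun {c' c} α {V W} g hg => by
        obtain rfl : m.obj c'.1.left = V := IsHomLift.domain_eq 𝒬.p g α
        obtain rfl : m.obj c.1.left = W := IsHomLift.codomain_eq 𝒬.p g α
        obtain rfl : g = m.map (quotBase α.hom) := @IsHomLift.eq_of_isHomLift _ _ _ _ 𝒬.p (P' c') (P' c) g α hg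
        exact isHomLift_triv (eltHom_base _ _)
      map_id := fun c => Φ.map_id c.1
      map_comp := fun α β => Φ.map_comp α.hom β.hom }
  have hpull' : PullStable P' := fun c V W g hW => by
    obtain ⟨i, α, hα⟩ := hpull c.1 g hW
    obtain rfl : m.obj i.left = V := IsHomLift.domain_eq ℬ.p g α
    subst hW
    obtain rfl : g = m.map (quotBase α) := @IsHomLift.eq_of_isHomLift _ _ _ _ ℬ.p (P i) (P c.1) g α hα
    exact ⟨⟨i, lands_of_hom α c.2⟩, ObjectProperty.homMk α, IsHomLift.of_fac' _ _ _ rfl rfl (by simp; rfl)⟩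
  have hloc' : LocCovers (QuotSh.J K₀ S) P' := fun A => by
    refine (hloc A.obj).mono ?_
    rintro V f ⟨i, α, hα⟩
    obtain rfl : m.obj i.left = V := IsHomLift.domain_eq ℬ.p f α
    obtain rfl : f = m.map α.base := @IsHomLift.eq_of_isHomLift _ _ _ _ ℬ.p (P i) A.obj f α hα
    exact ⟨⟨i, lands_of_hom α A.property⟩, ObjectProperty.homMk α, IsHomLift.of_fac' _ _ _ rfl rfl (by simp; rfl)⟩
  obtain ⟨iso⟩ := iso_of_agree h𝒬 (isPrestack_of_isStack (isStack_quotSt le_rfl hG)) Φ' hpull' hloc'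
    (BasedFunctor.comp (AlgSt.subIncl ℬ (Lands U)) fn) sq.top (fun c => v c.1) (fun c => hvl c.1)
    (fun α => hvn α.hom) τ hτl (fun {c' c} α => by
      change eltHom (C α.hom) (m.map (quotBase α.hom)) ≫ τ c = _
      rw [hCF]
      exact hτn α.hom)
  exact ⟨⟨fn, iso, eqToIso (self_eq _ _), selfHom_ext _ _⟩⟩

end Groth.Agent.H14GL
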