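import Mathlib.LinearAlgebra.FreeModule.PID
import Mathlib.LinearAlgebra.Matrix.GeneralLinearGroup.Defs
import Mathlib.RingTheory.DiscreteValuationRing.Basic
import Mathlib.RingTheory.Localization.Integer
import Mathlib

/-!
# Invertible matrices over the fraction field of a discrete valuation ring, in Smith form
-/

set_option autoImplicit false
set_option linter.unusedVariables false

universe u

open Matrix

noncomputable section

namespace Groth.Agent.H14GL

variable {n : ℕ}

/-- A diagonal invertible matrix. -/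
def diagU {A : Type u} [CommRing A] : (Fin n → Aˣ) →* GL (Fin n) A :=
  (Units.map (Matrix.diagonalRingHom (Fin n) A).toMonoidHom).comp MulEquiv.piUnits.symm.toMonoidHom

lemma diagU_val {A : Type u} [CommRing A] (v : Fin n → Aˣ) :
    (diagU v : GL (Fin n) A).val = Matrix.diagonal fun i => (v i : A) := rfl

lemma map_diagU {A A' : Type u} [CommRing A] [CommRing A'] (f : A →+* A') (v : Fin n → Aˣ) :
    GeneralLinearGroup.map f (diagU v) = diagU (fun i => Units.map (f : A →* A') (v i)) := by
  refine Units.ext (Matrix.ext fun i j => ?_)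
  change f (Matrix.diagonal (fun i => (v i : A)) i j) = Matrix.diagonal (fun i => f (v i : A)) i j
  by_cases hij : i = j
  · subst hij; simp
  · simp [hij]

variable {R K : Type u} [CommRing R] [IsDomain R] [IsDiscreteValuationRing R] [Field K] [Algebra R K]
  [IsFractionRing R K]

/-- Nonzero elements of a discrete valuation ring are units times powers of a uniformizer. -/
lemma exists_unit_mul_zpow {ϖ : R} (hϖ : Irreducible ϖ) (ϖK : Kˣ) (hK : (ϖK : K) = algebraMap R K ϖ) {a : R}
    (ha : a ≠ 0) : ∃ (v : Rˣ) (k : ℕ), Units.map (algebraMap R K : R →* K) v * ϖK ^ k =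
      Units.mk0 (algebraMap R K a) (by simpa using ha) := by
  obtain ⟨k, v, rfl⟩ := IsDiscreteValuationRing.eq_unit_mul_pow_irreducible ha hϖ
  exact ⟨v, k, Units.ext (by simp [hK])⟩

/-- Smith form: `γ = P · diag(ϖ^k) · Q`. -/
theorem exists_smith {ϖ : R} (hϖ : Irreducible ϖ) (ϖK : Kˣ) (hK : (ϖK : K) = algebraMap R K ϖ)
    (γ : GL (Fin n) K) : ∃ (P Q : GL (Fin n) R) (k : Fin n → ℤ),
      γ = GeneralLinearGroup.map (algebraMap R K) P * diagU (fun i => ϖK ^ k i) *
        GeneralLinearGroup.map (algebraMap R K) Q := by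
  classical
  obtain ⟨⟨b, hb⟩, hint⟩ := IsLocalization.exist_integer_multiples (nonZeroDivisors R) (Finset.univ : Finset (Fin n × Fin n))
    (fun p => γ.val p.1 p.2)
  choose m hm using fun p : Fin n × Fin n => hint p (Finset.mem_univ p)
  let M : Matrix (Fin n) (Fin n) R := Matrix.of fun i j => m (i, j)
  have hb0 : b ≠ 0 := nonZeroDivisors.ne_zero hb
  have hM : M.map (algebraMap R K) = algebraMap R K b • γ.val := Matrix.ext fun i j => by
    simpa [M, Algebra.smul_def] using hm (i, j)
  have hdet : M.det ≠ 0 := fun h0 => by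
    have h1 := RingHom.map_det (algebraMap R K) M
    rw [h0, map_zero, RingHom.mapMatrix_apply, hM, Matrix.det_smul] at h1
    have : γ.val.det ≠ 0 := ((Matrix.isUnit_iff_isUnit_det γ.val).1 γ.isUnit).ne_zero
    exact mul_ne_zero (pow_ne_zero _ (by simpa using hb0)) this h1.symm
  have hinj : Function.Injective (Matrix.mulVecLin M) := fun x y hxy => by
    by_contra hne
    exact hdet (Matrix.exists_mulVec_eq_zero_iff.1 ⟨x - y, sub_ne_zero.2 hne, by
      rw [Matrix.mulVec_sub, sub_eq_zero]; exact hxy⟩)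
  let N := LinearMap.range (Matrix.mulVecLin M)
  let e : Module.Basis (Fin n) R N := (Pi.basisFun R (Fin n)).map (LinearEquiv.ofInjective _ hinj)
  obtain ⟨l, snf⟩ := Submodule.smithNormalForm (Pi.basisFun R (Fin n)) N
  let σ : Fin l ≃ Fin n := Equiv.ofBijective snf.f ⟨snf.f.injective, by
    have : Fintype.card (Fin l) = Fintype.card (Fin n) := Fintype.card_congr (snf.bN.indexEquiv e)
    exact ((Fintype.bijective_iff_injective_and_card snf.f).2 ⟨snf.f.injective, this⟩).2⟩
  let bN := snf.bN.reindex σ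
  let a : Fin n → R := fun i => snf.a (σ.symm i)
  have hsnf : ∀ i, (bN i : Fin n → R) = a i • snf.bM i := fun i => by
    have := snf.snf (σ.symm i)
    rw [show snf.f (σ.symm i) = i from σ.apply_symm_apply i] at this
    simpa [bN, a] using this
  have ha : ∀ i, a i ≠ 0 := fun i h0 => by
    refine bN.ne_zero i (Subtype.ext ?_)
    rw [hsnf, h0, zero_smul]
    rfl
  let P₀ : GL (Fin n) R := ⟨(Pi.basisFun R (Fin n)).toMatrix snf.bM, snf.bM.toMatrix (Pi.basisFun R (Fin n)),
    Module.Basis.toMatrix_mul_toMatrix_flip _ _, Module.Basis.toMatrix_mul_toMatrix_flip _ _⟩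
  let Q : GL (Fin n) R := ⟨bN.toMatrix e, e.toMatrix bN,
    Module.Basis.toMatrix_mul_toMatrix_flip _ _, Module.Basis.toMatrix_mul_toMatrix_flip _ _⟩
  have hMeq : M = P₀.val * Matrix.diagonal a * Q.val := Matrix.ext fun r c => by
    have h1 : ((e c : N) : Fin n → R) r = M r c := by
      rw [show e c = LinearEquiv.ofInjective _ hinj (Pi.single c 1) by simp [e]]
      change M.mulVec (Pi.single c 1) r = M r c
      simp
    rw [← h1]
    conv_lhs => rw [← bN.sum_toMatrix_smul_self e c]
    rw [Matrix.mul_apply]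
    simp only [Submodule.coe_sum, Submodule.coe_smul, hsnf, Finset.sum_apply, Pi.smul_apply, smul_eq_mul,
      Matrix.mul_diagonal, P₀, Q, Module.Basis.toMatrix_apply, Pi.basisFun_repr]
    exact Finset.sum_congr rfl fun i _ => by ring
  choose v k hk using fun i => exists_unit_mul_zpow (K := K) hϖ ϖK hK (ha i)
  obtain ⟨w, lb, hw⟩ := exists_unit_mul_zpow (K := K) hϖ ϖK hK hb0
  refine ⟨P₀ * diagU (fun i => v i * w⁻¹), Q, fun i => (k i : ℤ) - lb, Units.ext ?_⟩
  have hbK : algebraMap R K b ≠ 0 := by simpa using hb0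
  apply smul_right_injective _ hbK
  dsimp only
  rw [← hM, hMeq, Matrix.map_mul, Matrix.map_mul, map_mul, map_diagU, Units.val_mul, Units.val_mul, Units.val_mul,
    diagU_val, diagU_val, ← Matrix.smul_mul, ← Matrix.mul_smul, Matrix.mul_assoc
      ((GeneralLinearGroup.map (algebraMap R K) P₀).val)]
  congr 2
  rw [Matrix.diagonal_map (map_zero _), ← Matrix.diagonal_smul, Matrix.diagonal_mul_diagonal]
  congr 1
  funext i
  have h1 := congrArg Units.val (hk i)
  have h2 := congrArg Units.val hw
  simp only [Units.val_mul, Units.val_pow_eq_pow_val, Units.val_mk0] at h1 h2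
  simp only [Pi.smul_apply, smul_eq_mul, map_mul, Units.val_mul, map_inv, Units.val_inv_eq_inv_val, Units.val_zpow_eq_zpow_val]
  rw [← h1, ← h2]
  have h3 : (Units.map (algebraMap R K : R →* K) w : K) ≠ 0 := Units.ne_zero _
  have h4 : (ϖK : K) ^ lb ≠ 0 := pow_ne_zero _ (Units.ne_zero _)
  rw [zpow_sub₀ (Units.ne_zero _), zpow_natCast, zpow_natCast]
  field_simp

end Groth.Agent.H14GL
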