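import Groth.Agent.H14GL.Main
import Groth.Agent.H14GL.Smith

/-!
# The two charts of the punctured two-branched stack
-/

set_option autoImplicit false
set_option linter.unusedVariables false
set_option backward.isDefEq.respectTransparency false
set_option backward.isDefEq.respectTransparency.types false

universe u

open CategoryTheory CategoryTheory.Functor CategoryTheory.Limits MonoidalCategory CartesianMonoidalCategory MonObj GrpObj
open AlgebraicGeometry
open scoped TensorProduct

noncomputable section

namespace Groth.Agent.H14GL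

open H14Fib H14Stk H14AlgSt H14Quot H14Lift

/-- Composition of the maps induced on invertible matrices. -/
lemma gl_map_map {n : ℕ} {A A' A'' : Type u} [CommRing A] [CommRing A'] [CommRing A''] (f : A →+* A') (g : A' →+* A'')
    (k : A →+* A'') (hk : g.comp f = k) (P : GL (Fin n) A) :
    Matrix.GeneralLinearGroup.map g (Matrix.GeneralLinearGroup.map f P) = Matrix.GeneralLinearGroup.map k P := by
  subst hk
  exact Units.ext (Matrix.ext fun i j => rfl)

variable (R : Type u) [CommRing R] (π : R)

/-- The chart where `s` is invertible. -/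
abbrev SA : Type u := Localization.Away (ThetaS.sFn R π)

/-- The chart where `t` is invertible. -/
abbrev TA : Type u := Localization.Away (ThetaS.tFn R π)

/-- The overlap of the charts. -/
abbrev STA : Type u := Localization.Away (algebraMap (ThetaS.STRing R π) (SA R π) (ThetaS.tFn R π))

/-- The inclusion of the overlap in the first chart. -/
abbrev ψs : SA R π →ₐ[R] STA R π := IsScalarTower.toAlgHom R (SA R π) (STA R π)

/-- The coordinate on the first chart, as a unit. -/
def sU : (SA R π)ˣ := (IsLocalization.Away.algebraMap_isUnit (S := SA R π) (ThetaS.sFn R π)).unit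

/-- The coordinate on the second chart, as a unit. -/
def tU : (TA R π)ˣ := (IsLocalization.Away.algebraMap_isUnit (S := TA R π) (ThetaS.tFn R π)).unit

/-- The first coordinate on the overlap. -/
def sU₂ : (STA R π)ˣ := Units.map (ψs R π : SA R π →* STA R π) (sU R π)

/-- The second coordinate on the overlap. -/
def tU₂ : (STA R π)ˣ :=
  (IsLocalization.Away.algebraMap_isUnit (S := STA R π) (algebraMap (ThetaS.STRing R π) (SA R π) (ThetaS.tFn R π))).unit

/-- The coordinate ring maps to the overlap. -/
def toSTA : ThetaS.STRing R π →ₐ[R] STA R π := (ψs R π).comp (IsScalarTower.toAlgHom R (ThetaS.STRing R π) (SA R π))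

lemma isUnit_toSTA_pow (y : Submonoid.powers (ThetaS.tFn R π)) : IsUnit (toSTA R π y) := by
  obtain ⟨_, m, rfl⟩ := y
  rw [map_pow]
  exact IsUnit.pow m (tU₂ R π).isUnit

/-- The inclusion of the overlap in the second chart. -/
def ψt : TA R π →ₐ[R] STA R π :=
  IsLocalization.liftAlgHom (M := Submonoid.powers (ThetaS.tFn R π)) (isUnit_toSTA_pow R π)

lemma ψt_algebraMap (x : ThetaS.STRing R π) : ψt R π (algebraMap _ (TA R π) x) = toSTA R π x := by
  simp [ψt, IsLocalization.liftAlgHom_apply]

lemma ψ_comp : (ψs R π).comp (IsScalarTower.toAlgHom R (ThetaS.STRing R π) (SA R π)) =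
    (ψt R π).comp (IsScalarTower.toAlgHom R (ThetaS.STRing R π) (TA R π)) :=
  AlgHom.ext fun x => (ψt_algebraMap R π x).symm

lemma map_tU : Units.map (ψt R π : TA R π →* STA R π) (tU R π) = tU₂ R π :=
  Units.ext ((ψt_algebraMap R π (ThetaS.tFn R π)).trans rfl)

lemma sU₂_mul_tU₂ : (sU₂ R π : STA R π) * tU₂ R π = algebraMap R (STA R π) π := by
  have h := congrArg (toSTA R π) (ThetaS.sFn_mul_tFn R π)
  rw [map_mul, AlgHom.commutes] at h
  exact h

variable {R π} in
/-- The overlap receives the fraction field. -/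
lemma isUnit_of_ne_zero [IsDomain R] [IsDiscreteValuationRing R] (hπ : Irreducible π) {a : R} (ha : a ≠ 0) :
    IsUnit (algebraMap R (STA R π) a) := by
  obtain ⟨k, v, rfl⟩ := IsDiscreteValuationRing.eq_unit_mul_pow_irreducible ha hπ
  rw [map_mul, map_pow, ← sU₂_mul_tU₂]
  exact (v.isUnit.map _).mul (((sU₂ R π).isUnit.mul (tU₂ R π).isUnit).pow k)

variable {R π} in
/-- The map from the fraction field to the overlap. -/
def κ₂ [IsDomain R] [IsDiscreteValuationRing R] (hπ : Irreducible π) : FractionRing R →ₐ[R] STA R π :=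
  IsLocalization.liftAlgHom (M := nonZeroDivisors R) (f := Algebra.ofId R (STA R π))
    (fun y => isUnit_of_ne_zero hπ (nonZeroDivisors.ne_zero y.2))

/-- A uniformizer as a unit of the fraction field. -/
def piK {R : Type u} [CommRing R] [IsDomain R] {π : R} (hπ : π ≠ 0) : (FractionRing R)ˣ :=
  Units.mk0 (algebraMap R (FractionRing R) π) (by simpa using hπ)

variable {R π} in
lemma map_piK [IsDomain R] [IsDiscreteValuationRing R] (hπ : Irreducible π) :
    Units.map (κ₂ hπ : FractionRing R →* STA R π) (piK hπ.ne_zero) = sU₂ R π * tU₂ R π :=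
  Units.ext (((κ₂ hπ).commutes π).trans (sU₂_mul_tU₂ R π).symm)

/-- Both branches meet the punctured curve. -/
lemma landsA_unit {A : Type u} [CommRing A] [Algebra R A] {x : ThetaS.STRing R π →ₐ[R] A}
    (hx : IsUnit (x (ThetaS.sFn R π)) ∨ IsUnit (x (ThetaS.tFn R π))) :
    LandsA (ThetaS.sFn R π) (ThetaS.tFn R π) x := by
  rcases hx with hx | hx
  · exact Ideal.eq_top_of_isUnit_mem _ (Ideal.subset_span (Set.mem_insert _ _)) hx
  · exact Ideal.eq_top_of_isUnit_mem _ (Ideal.subset_span (Set.mem_insert_of_mem _ rfl)) hx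

/-- The first branch through the generic point. -/
def x₁ : ThetaS.STRing R π →ₐ[R] R := ThetaS.stPt 1 π (by simp)

/-- The second branch through the generic point. -/
def x₂ : ThetaS.STRing R π →ₐ[R] R := ThetaS.stPt π 1 (by simp)

lemma smul_x₁ {A : Type u} [CommRing A] [Algebra R A] (v : Aˣ) {y : ThetaS.STRing R π →ₐ[R] A}
    (hs : y (ThetaS.sFn R π) = v) : stSMul v ((Algebra.ofId R A).comp (x₁ R π)) = y := by
  refine ThetaS.stRing_algHom_ext ?_ ?_
  · simp [stSMul, x₁, hs]
  · have h := congrArg y (ThetaS.sFn_mul_tFn R π)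
    rw [map_mul, hs, AlgHom.commutes] at h
    simp [stSMul, x₁, ← h, Algebra.ofId_apply]

lemma smul_x₂ {A : Type u} [CommRing A] [Algebra R A] (v : Aˣ) {y : ThetaS.STRing R π →ₐ[R] A}
    (ht : y (ThetaS.tFn R π) = ((v⁻¹ : Aˣ) : A)) : stSMul v ((Algebra.ofId R A).comp (x₂ R π)) = y := by
  refine ThetaS.stRing_algHom_ext ?_ ?_
  · have h := congrArg y (ThetaS.sFn_mul_tFn R π)
    rw [map_mul, ht, AlgHom.commutes] at h
    simp [stSMul, x₂, ← h, Algebra.ofId_apply, mul_comm (v : A)]
  · simp [stSMul, x₂, ht]

end Groth.Agent.H14GL
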