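import Groth.Agent.H14GL.ThetaRings
import Groth.Agent.H14GL.STRings

/-!
# Functors into `BG` on the punctured scaling stack extend, for a matrix group
-/

set_option autoImplicit false
set_option linter.unusedVariables false
set_option backward.isDefEq.respectTransparency false
set_option backward.isDefEq.respectTransparency.types false

universe u

open CategoryTheory CategoryTheory.Functor CategoryTheory.Limits MonoidalCategory CartesianMonoidalCategory MonObj GrpObj
open AlgebraicGeometry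
open scoped TensorProduct Polynomial

noncomputable section

namespace Groth.Agent.H14GL

open H14Fib H14Stk H14AlgSt H14Quot H14Lift

attribute [local instance] Polynomial.algebra algLau

local notation "K₀" => Scheme.fppfPrecoverage
local notation "LT" => LaurentPolynomial.T
local notation "LC" => LaurentPolynomial.C

variable {S : Scheme.{u}} {G : Over S} [GrpObj G] {n : ℕ} {R : Type u} [CommRing R] {ϖ : R}
  {h : Spec (CommRingCat.of R) ⟶ S}

/-- The origin is invariant. -/
lemma hinv_line : (ThetaS.lineAction R).act.left ⁻¹ᵁ pairOpen (Polynomial.X : R[X]) (Polynomial.C ϖ) =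
    (snd (ThetaS.Gm R) (ThetaS.Line R)).left ⁻¹ᵁ pairOpen (Polynomial.X : R[X]) (Polynomial.C ϖ) := by
  let g₀ : ThetaS.Lau R →ₐ[R] R[X] ⊗[R] ThetaS.Lau R := Algebra.TensorProduct.includeRight
  let x₀ : R[X] →ₐ[R] R[X] ⊗[R] ThetaS.Lau R := Algebra.TensorProduct.includeLeft
  have hx : x₀ = ThetaS.linePt ((Polynomial.X : R[X]) ⊗ₜ[R] (1 : ThetaS.Lau R)) := Polynomial.algHom_ext (by simp [x₀])
  have hξ : lift (CoactBr.pt g₀) (CoactBr.pt x₀) ≫ (ThetaS.lineAction R).act =
      CoactBr.pt (ThetaS.linePt (g₀ (ThetaS.zPow R 1) * (Polynomial.X ⊗ₜ[R] 1))) := by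
    rw [hx, ThetaS.lineAction_pt]
  rw [pairOpen, Scheme.Hom.preimage_sup, Scheme.Hom.preimage_sup,
    H14Ga.preimage_semiInvariant _ _ _ hξ ((isUnit_zPow 1).map g₀) (by simp [g₀]),
    H14Ga.preimage_semiInvariant _ _ _ hξ (v := 1) isUnit_one (by
      rw [_root_.one_mul, Polynomial.aeval_C]
      rfl)]

/-- The action of units on points. -/
abbrev lineC : GmSMul (ThetaS.lineAction R) := ⟨fun v x => lineSMul v x, fun v x => lineSMul_act v x⟩

lemma lineSMul_eq {A : Type u} [CommRing A] [Algebra R A] (v : Aˣ) (x y : R[X] →ₐ[R] A)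
    (hy : y Polynomial.X = v * x Polynomial.X) : lineSMul v x = y :=
  Polynomial.algHom_ext (by simp [lineSMul, hy])

lemma smul_one_pt {A : Type u} [CommRing A] [Algebra R A] (v : Aˣ) {y : R[X] →ₐ[R] A} (hy : y Polynomial.X = v) :
    lineSMul v ((Algebra.ofId R A).comp (ThetaS.lineOne R)) = y :=
  lineSMul_eq v _ _ (by simp [hy])

variable (R) in
lemma lands_one : LandsA (Polynomial.X : R[X]) (Polynomial.C ϖ) (ThetaS.lineOne R) :=
  Ideal.eq_top_of_isUnit_mem _ (Ideal.subset_span (Set.mem_insert _ _)) (by simp)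

lemma lands_x : LandsA (Polynomial.X : R[X]) (Polynomial.C ϖ)
    (IsScalarTower.toAlgHom R R[X] (LaurentPolynomial R)) :=
  Ideal.eq_top_of_isUnit_mem _ (Ideal.subset_span (Set.mem_insert _ _))
    (IsLocalization.Away.algebraMap_isUnit (Polynomial.X : R[X]))

variable {K : Type u} [Field K] [Algebra R K]

lemma lands_p [IsFractionRing R K] (hϖ : ϖ ≠ 0) :
    LandsA (Polynomial.X : R[X]) (Polynomial.C ϖ) (IsScalarTower.toAlgHom R R[X] K[X]) :=
  Ideal.eq_top_of_isUnit_mem _ (Ideal.subset_span (Set.mem_insert_of_mem _ rfl)) (by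
    change IsUnit (Polynomial.map (algebraMap R K) (Polynomial.C ϖ))
    rw [Polynomial.map_C]
    exact Polynomial.isUnit_C.2 (isUnit_iff_ne_zero.2 (by simpa using hϖ)))

variable {F : AlgSt.fullSub (ThetaS.overS h (AlgSt.QuotSt K₀ (ThetaS.Gm R) (ThetaS.lineAction R)))
    (Lands (X := CoactBr.sp R R[X]) (pairOpen (Polynomial.X : R[X]) (Polynomial.C ϖ))) ⥤ᵇ AlgSt.BG K₀ G}

/-- Frames on the two charts differ on the overlap by an equivariant matrix. -/
theorem exists_equivariant (P : MatPts G n)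
    (τ₁ : Frame hinv_line F (ThetaS.lineOne R) (lands_one R))
    (hp : LandsA (Polynomial.X : R[X]) (Polynomial.C ϖ) (IsScalarTower.toAlgHom R R[X] K[X]))
    (τb : Frame hinv_line F (IsScalarTower.toAlgHom R R[X] K[X]) hp)
    (τa : Frame hinv_line F (IsScalarTower.toAlgHom R R[X] (LaurentPolynomial R)) lands_x)
    (hτa : τa = τ₁.pull lineC (Algebra.ofId R (LaurentPolynomial R)) (TU R 1) (smul_one_pt _ Polynomial.toLaurent_X)) :
    ∃ gK : GL (Fin n) (LaurentPolynomial K),
      τb.pull lineC (hx' := lands_x.comp (ψx R K)) (ψp R K) 1 ((lineC.smul_one _).trans (ψx_ψp_comp R K).symm) =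
        (τa.pull lineC (hx' := lands_x.comp (ψx R K)) (ψx R K) 1 (lineC.smul_one _)).smul P gK ∧
      ∀ j : ℤ, ∃ c : Matrix (Fin n) (Fin n) K[X],
        (LT j : LaurentPolynomial K) • (coefMat gK j).map (⇑(LC : K →+* LaurentPolynomial K)) =
          c.map (⇑(Polynomial.toLaurent (R := K))) * gK.val := by
  subst hτa
  let E := LaurentPolynomial (LaurentPolynomial K)
  let D := LaurentPolynomial K[X]
  let φ₂ : R[X] →ₐ[R] LaurentPolynomial K := (ψx R K).comp (IsScalarTower.toAlgHom R R[X] (LaurentPolynomial R))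
  have hφ₂X : φ₂ Polynomial.X = LT 1 :=
    (congrArg (ψx R K) Polynomial.toLaurent_X).trans (ψx_T R K 1)
  have hpb : (ψp R K).comp (IsScalarTower.toAlgHom R R[X] K[X]) = φ₂ := (ψx_ψp_comp R K).symm
  have hpX : (IsScalarTower.toAlgHom R R[X] K[X]) Polynomial.X = Polynomial.X :=
    Polynomial.map_X (algebraMap R K)
  let yD : R[X] →ₐ[R] D := (θp R K).comp (IsScalarTower.toAlgHom R R[X] K[X])
  have hyD : LandsA (Polynomial.X : R[X]) (Polynomial.C ϖ) yD := hp.comp _
  have hyDX : yD Polynomial.X = LT 1 * LC Polynomial.X := by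
    change θp R K ((IsScalarTower.toAlgHom R R[X] K[X]) Polynomial.X) = _
    rw [hpX]
    exact Polynomial.aeval_X _
  have hrD : lineC.smul (TU K[X] 1) ((cAlg R K[X]).comp (IsScalarTower.toAlgHom R R[X] K[X])) = yD :=
    lineSMul_eq _ _ _ (by rw [hyDX, AlgHom.comp_apply, hpX, cAlg_apply]; rfl)
  let yE : R[X] →ₐ[R] E := (ιp R K).comp yD
  have hyE : LandsA (Polynomial.X : R[X]) (Polynomial.C ϖ) yE := hyD.comp _
  have hθy : (θl R K).comp φ₂ = yE := by
    rw [← hpb, ← AlgHom.comp_assoc, θl_comp_ψp, AlgHom.comp_assoc]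
  let gE : Eˣ := TU (LaurentPolynomial K) 1
  have hrE : lineC.smul gE ((cAlg R (LaurentPolynomial K)).comp φ₂) = yE :=
    lineSMul_eq _ _ _ (by
      change ιp R K (yD Polynomial.X) = _ * cAlg R (LaurentPolynomial K) (φ₂ Polynomial.X)
      rw [hyDX, hφ₂X, map_mul, ιp_T, ιp_C, Polynomial.toLaurent_X, cAlg_apply]
      rfl)
  let wE : Eˣ := gE * Units.map (cAlg R (LaurentPolynomial K) : LaurentPolynomial K →* E) (TU K 1)
  have hrW : lineC.smul wE ((Algebra.ofId R E).comp (ThetaS.lineOne R)) = yE := smul_one_pt _ (by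
    rw [← hθy, AlgHom.comp_apply, hφ₂X, θl_T]
    rfl)
  have hιg : (Units.map (ιp R K : D →* E) (TU K[X] 1) : Eˣ) = gE := Units.ext (ιp_T R K 1)
  let τb' := τb.pull lineC (hx' := lands_x.comp (ψx R K)) (ψp R K) 1 ((lineC.smul_one _).trans hpb)
  have hra : lineC.smul (TU K 1) ((Algebra.ofId R (LaurentPolynomial K)).comp (ThetaS.lineOne R)) = φ₂ :=
    smul_one_pt _ hφ₂X
  let τa' := τ₁.pull lineC (hx' := lands_x.comp (ψx R K)) (Algebra.ofId R (LaurentPolynomial K)) (TU K 1) hra
  have ha' : (τ₁.pull lineC (hx' := lands_x) (Algebra.ofId R (LaurentPolynomial R)) (TU R 1)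
      (smul_one_pt _ Polynomial.toLaurent_X)).pull lineC (hx' := lands_x.comp (ψx R K)) (ψx R K) 1 (lineC.smul_one _) =
      τa' :=
    Frame.pull_pull lineC _ _ _ _ _ _ _ _ _ (Subsingleton.elim _ _) (by
      rw [_root_.one_mul]
      exact Units.ext (ψx_T R K 1)) τ₁
  obtain ⟨gK, hgK⟩ := τa'.exists_smul P τb'
  refine ⟨gK, by rw [ha']; exact hgK, ?_⟩
  obtain ⟨c, hc⟩ := (τb.pull lineC (hx' := hyD) (cAlg R K[X]) (TU K[X] 1) hrD).exists_smul P
    (τb.pull lineC (hx' := hyD) (θp R K) 1 (lineC.smul_one _))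
  have hrι : lineC.smul 1 ((ιp R K).comp yD) = yE := lineC.smul_one _
  have hrθ : lineC.smul 1 ((θl R K).comp φ₂) = yE := (lineC.smul_one _).trans hθy
  have hrC : lineC.smul gE (((cAlg R (LaurentPolynomial K)).comp (ψp R K)).comp
      (IsScalarTower.toAlgHom R R[X] K[X])) = yE := by rw [AlgHom.comp_assoc, hpb]; exact hrE
  have hrT : lineC.smul 1 (((θl R K).comp (ψp R K)).comp (IsScalarTower.toAlgHom R R[X] K[X])) = yE := by
    rw [AlgHom.comp_assoc, hpb]; exact hrθ
  have hcι : (ιp R K).comp (cAlg R K[X]) = (cAlg R (LaurentPolynomial K)).comp (ψp R K) :=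
    AlgHom.ext fun p => ιp_C R K p
  have e₁ : τb'.pull lineC (hx' := hyE) (θl R K) 1 hrθ = τb.pull lineC ((θl R K).comp (ψp R K)) 1 hrT :=
    Frame.pull_pull lineC _ _ _ _ _ _ _ _ hrT rfl (by rw [map_one, _root_.mul_one]) τb
  have e₂ : (τb.pull lineC (hx' := hyD) (θp R K) 1 (lineC.smul_one _)).pull lineC (hx' := hyE) (ιp R K) 1 hrι =
      τb.pull lineC ((θl R K).comp (ψp R K)) 1 hrT :=
    Frame.pull_pull lineC _ _ _ _ _ _ _ _ hrT (θl_comp_ψp R K).symm (by rw [map_one, _root_.mul_one]) τb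
  have e₃ : (τb.pull lineC (hx' := hyD) (cAlg R K[X]) (TU K[X] 1) hrD).pull lineC (hx' := hyE) (ιp R K) 1 hrι =
      τb.pull lineC ((cAlg R (LaurentPolynomial K)).comp (ψp R K)) gE hrC :=
    Frame.pull_pull lineC _ _ _ _ _ _ _ _ hrC hcι (by rw [_root_.one_mul, hιg]) τb
  have e₄ : τb'.pull lineC (hx' := hyE) (cAlg R (LaurentPolynomial K)) gE hrE =
      τb.pull lineC ((cAlg R (LaurentPolynomial K)).comp (ψp R K)) gE hrC :=
    Frame.pull_pull lineC _ _ _ _ _ _ _ _ hrC rfl (by rw [map_one, _root_.mul_one]) τb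
  have e₅ : τa'.pull lineC (hx' := hyE) (θl R K) 1 hrθ = τ₁.pull lineC (Algebra.ofId R E) wE hrW :=
    Frame.pull_pull lineC _ _ _ _ _ _ _ _ hrW (Subsingleton.elim _ _) (by
      rw [_root_.one_mul]
      exact Units.ext (θl_T R K 1)) τ₁
  have e₆ : τa'.pull lineC (hx' := hyE) (cAlg R (LaurentPolynomial K)) gE hrE =
      τ₁.pull lineC (Algebra.ofId R E) wE hrW :=
    Frame.pull_pull lineC _ _ _ _ _ _ _ _ hrW (Subsingleton.elim _ _) rfl τ₁
  have k₁ := congrArg (fun τ => Frame.pull lineC (hx' := hyE) (θl R K) 1 hrθ τ) hgK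
  have k₂ := congrArg (fun τ => Frame.pull lineC (hx' := hyE) (cAlg R (LaurentPolynomial K)) gE hrE τ) hgK
  have k₃ := congrArg (fun τ => Frame.pull lineC (hx' := hyE) (ιp R K) 1 hrι τ) hc
  rw [Frame.pull_smul, e₁, e₅] at k₁
  rw [Frame.pull_smul, e₄, e₆] at k₂
  rw [Frame.pull_smul, e₂, e₃, k₂, Frame.smul_smul] at k₃
  have key := Frame.smul_inj P (k₁.symm.trans k₃)
  intro j
  refine ⟨c.val.map fun p => p.coeff j, Matrix.ext fun i l => ?_⟩
  have hil := congrArg (fun M : GL (Fin n) E => (M.val i l).coeff j) key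
  simp only [Units.val_mul, Matrix.mul_apply] at hil
  change (θl R K (gK.val i l)).coeff j =
    (∑ m, ιp R K (c.val i m) * cAlg R (LaurentPolynomial K) (gK.val m l)).coeff j at hil
  rw [AddMonoidAlgebra.coeff_sum, Finset.sum_apply'] at hil
  simp only [coeff_θl, cAlg_apply, coeff_mul_C', coeff_ιp] at hil
  rw [Matrix.smul_apply, smul_eq_mul, Matrix.map_apply, Matrix.mul_apply]
  simp only [Matrix.map_apply]
  rw [mul_comm]
  exact hil

variable [IsDomain R] [IsDiscreteValuationRing R]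

/-- A functor into `BG` on the punctured scaling stack is trivial over the punctured line. -/
theorem triv_theta (P : MatPts G n) (hϖ : Irreducible ϖ) :
    ∃ τ : trivTors (G := G) ((Over.map h).obj (H13AlgSp.openOver (CoactBr.sp R R[X])
        (pairOpen (Polynomial.X : R[X]) (Polynomial.C ϖ)))) ⟶ F.obj ⟨_, lands_openIncl hinv_line⟩,
      (AlgSt.BG K₀ G).p.IsHomLift (𝟙 ((Over.map h).obj (H13AlgSp.openOver (CoactBr.sp R R[X])
        (pairOpen (Polynomial.X : R[X]) (Polynomial.C ϖ))))) τ := by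
  let K := FractionRing R
  have : IsLocalization.Away (Polynomial.C ϖ : R[X]) K[X] := isLocalization_poly R K hϖ
  have : IsLocalization.Away (algebraMap R[X] (LaurentPolynomial R) (Polynomial.C ϖ)) (LaurentPolynomial K) :=
    isLocalization_laurent R K hϖ
  obtain ⟨τ₁⟩ := exists_frame (F := F) (hinv := hinv_line) P (ThetaS.lineOne R) (lands_one R)
  obtain ⟨τb⟩ := exists_frame (F := F) (hinv := hinv_line) P (IsScalarTower.toAlgHom R R[X] K[X]) (lands_p hϖ.ne_zero)
  let τa : Frame hinv_line F (IsScalarTower.toAlgHom R R[X] (LaurentPolynomial R)) lands_x :=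
    τ₁.pull lineC (Algebra.ofId R (LaurentPolynomial R)) (TU R 1) (smul_one_pt _ Polynomial.toLaurent_X)
  obtain ⟨gK, hgK, heq⟩ := exists_equivariant P τ₁ (lands_p hϖ.ne_zero) τb τa rfl
  obtain ⟨Q, U, k, hk⟩ := exists_factor R gK heq
  let gx : GL (Fin n) (LaurentPolynomial R) := diagU (fun l => TU R (k l)) *
    Matrix.GeneralLinearGroup.map (LC : R →+* LaurentPolynomial R) U
  refine exists_triv_of_away lineC (ψx R K) rfl (ψp R K) (ψx_ψp_comp R K) lands_x (lands_p hϖ.ne_zero)
    (lands_x.comp (ψx R K)) (τa.smul P gx) (τb.smul P Q⁻¹) ?_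
  rw [Frame.pull_smul, Frame.pull_smul, hgK, Frame.smul_smul]
  congr 1
  have hd : Matrix.GeneralLinearGroup.map (ψx R K).toRingHom (diagU (fun l => TU R (k l))) =
      diagU (fun l => TU K (k l)) := by
    rw [map_diagU]
    exact congrArg diagU (funext fun l => Units.ext (ψx_T R K (k l)))
  have hC : (ψx R K).toRingHom.comp (LC : R →+* LaurentPolynomial R) =
      (LC : K →+* LaurentPolynomial K).comp (algebraMap R K) := RingHom.ext fun r => ψx_C R K r
  rw [map_mul, hd, gl_map_map _ _ _ hC, hk, _root_.map_inv]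
  change _ = (Matrix.GeneralLinearGroup.map (Polynomial.toLaurent (R := K)) Q)⁻¹ * _
  rw [_root_.mul_assoc (Matrix.GeneralLinearGroup.map (Polynomial.toLaurent (R := K)) Q),
    _root_.inv_mul_cancel_left]

end Groth.Agent.H14GL
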