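import Groth.Agent.H14GL.FlagBasis
import Groth.Agent.H14GL.Smith
import Mathlib.Algebra.Polynomial.Laurent

/-!
# Equivariant invertible matrices of Laurent polynomials factor through a diagonal one
-/

set_option autoImplicit false
set_option linter.unusedVariables false

universe u

open Matrix LaurentPolynomial
open scoped Polynomial

noncomputable section

namespace Groth.Agent.H14GL

variable {A : Type u} [CommRing A] {n : ℕ}

/-- A power of the variable as a unit. -/
def TU (A : Type u) [CommRing A] (d : ℤ) : (LaurentPolynomial A)ˣ :=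
  ⟨T d, T (-d), by rw [← T_add, add_neg_cancel, T_zero], by rw [← T_add, neg_add_cancel, T_zero]⟩

lemma TU_val (d : ℤ) : (TU A d : LaurentPolynomial A) = T d := rfl

lemma coeff_mul_T' (p : LaurentPolynomial A) (m d : ℤ) : (p * T m).coeff d = p.coeff (d - m) := by
  rw [LaurentPolynomial.T, AddMonoidAlgebra.coeff_mul_single_eq_coeff_mul (d - m) (fun a _ => by omega), mul_one]

lemma coeff_mul_C' (p : LaurentPolynomial A) (a : A) (d : ℤ) : (p * C a).coeff d = p.coeff d * a := by
  rw [← single_eq_C, AddMonoidAlgebra.coeff_mul_single_eq_coeff_mul d (fun b _ => by omega)]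

lemma eq_sum_C_mul_T (p : LaurentPolynomial A) : p = ∑ d ∈ p.coeff.support, C (p.coeff d) * T d := by
  classical
  ext a
  simp_rw [AddMonoidAlgebra.coeff_sum, ← single_eq_C_mul_T, AddMonoidAlgebra.coeff_single]
  rw [Finset.sum_apply']
  simp only [Finsupp.single_apply, Finset.sum_ite_eq']
  split_ifs with h
  · rfl
  · exact Finsupp.notMem_support_iff.1 h

/-- Polynomials are the Laurent polynomials without negative terms. -/
lemma mem_range_toLaurent {p : LaurentPolynomial A} (hp : ∀ d < 0, p.coeff d = 0) :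
    p ∈ (Polynomial.toLaurent (R := A)).range := by
  rw [eq_sum_C_mul_T p]
  refine Subring.sum_mem _ fun d hd => ?_
  rcases lt_or_ge d 0 with hd0 | hd0
  · exact absurd (hp d hd0) (Finsupp.mem_support_iff.1 hd)
  · lift d to ℕ using hd0
    exact ⟨Polynomial.monomial d (p.coeff d), Polynomial.toLaurent_C_mul_T d _⟩

lemma T_mem_range_toLaurent {d : ℤ} (hd : 0 ≤ d) : T d ∈ (Polynomial.toLaurent (R := A)).range := by
  lift d to ℕ using hd
  exact ⟨Polynomial.X ^ d, Polynomial.toLaurent_X_pow d⟩

variable {R K : Type u} [CommRing R] [IsDomain R] [IsPrincipalIdealRing R] [Field K] [Algebra R K]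
  [IsFractionRing R K]

variable (g : GL (Fin n) (LaurentPolynomial K))

/-- The coefficient matrix. -/
def coefMat (j : ℤ) : Matrix (Fin n) (Fin n) K := g.val.map fun p => p.coeff j

/-- The rows of the coefficient matrices up to a degree. -/
def coefFlag (N : ℕ) (m : ℕ) : Submodule K (Fin n → K) :=
  Submodule.span K {v | ∃ (j : ℤ) (i : Fin n), j + N < m ∧ v = coefMat g j i}

lemma coefFlag_mono (N : ℕ) : Monotone (coefFlag g N) := fun a b hab =>
  Submodule.span_mono (by rintro v ⟨j, i, hj, rfl⟩; exact ⟨j, i, lt_of_lt_of_le hj (by exact_mod_cast hab), rfl⟩)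

lemma exists_bound : ∃ N : ℕ, ∀ j : ℤ, N ≤ j.natAbs → coefMat g j = 0 := by
  classical
  let s := (Finset.univ : Finset (Fin n × Fin n)).biUnion fun q => (g.val q.1 q.2).coeff.support.image Int.natAbs
  refine ⟨s.sup id + 1, fun j hj => Matrix.ext fun i l => ?_⟩
  by_contra h
  have : j.natAbs ∈ s := Finset.mem_biUnion.2 ⟨(i, l), Finset.mem_univ _,
    Finset.mem_image.2 ⟨j, Finsupp.mem_support_iff.2 h, rfl⟩⟩
  have := Finset.le_sup (f := id) this
  change j.natAbs ≤ _ at this
  omega

lemma coefFlag_zero {N : ℕ} (hN : ∀ j : ℤ, N ≤ j.natAbs → coefMat g j = 0) : coefFlag g N 0 = ⊥ := by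
  refine Submodule.span_eq_bot.2 ?_
  rintro v ⟨j, i, hj, rfl⟩
  rw [hN j (by omega)]
  rfl

lemma coefFlag_top {N : ℕ} (hN : ∀ j : ℤ, N ≤ j.natAbs → coefMat g j = 0) : coefFlag g N (2 * N + 1) = ⊤ := by
  classical
  refine eq_top_iff.2 fun v _ => ?_
  let w : Fin n → LaurentPolynomial K := (fun i => C (v i)) ᵥ* (g⁻¹ : GL (Fin n) _).val
  have hw : w ᵥ* g.val = fun i => C (v i) := by
    simp only [w]
    rw [Matrix.vecMul_vecMul, Units.inv_mul, Matrix.vecMul_one]
  have hrow : ∀ i a, (fun l => (C a * g.val i l * T 0 : LaurentPolynomial K).coeff 0) ∈ coefFlag g N (2 * N + 1) ∧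
      ∀ d : ℤ, (fun l => (g.val i l).coeff d) ∈ coefFlag g N (2 * N + 1) := fun i a => by
    have h2 : ∀ d : ℤ, (fun l => (g.val i l).coeff d) ∈ coefFlag g N (2 * N + 1) := fun d => by
      by_cases hd : N ≤ d.natAbs
      · have : (fun l => (g.val i l).coeff d) = 0 := funext fun l => congrFun (congrFun (hN d hd) i) l
        rw [this]
        exact zero_mem _
      · exact Submodule.subset_span ⟨d, i, by push_cast; omega, rfl⟩
    refine ⟨?_, h2⟩
    have : (fun l => (C a * g.val i l * T 0 : LaurentPolynomial K).coeff 0) = a • fun l => (g.val i l).coeff 0 := by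
      funext l
      rw [T_zero, mul_one, mul_comm, coeff_mul_C', Pi.smul_apply, smul_eq_mul, mul_comm]
    rw [this]
    exact Submodule.smul_mem _ _ (h2 0)
  have hv : v = ∑ i, ∑ d ∈ (w i).coeff.support, (w i).coeff d • fun l => (g.val i l).coeff (0 - d) := by
    funext l
    have h1 := congrArg (fun p : LaurentPolynomial K => p.coeff 0) (congrFun hw l)
    simp only [Matrix.vecMul, dotProduct, AddMonoidAlgebra.coeff_sum, Finset.sum_apply', C_apply, if_pos] at h1
    rw [← h1, Finset.sum_apply]
    refine Finset.sum_congr rfl fun i _ => ?_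
    conv_lhs => rw [eq_sum_C_mul_T (w i), Finset.sum_mul]
    simp only [AddMonoidAlgebra.coeff_sum, Finset.sum_apply', Finset.sum_apply, Pi.smul_apply, smul_eq_mul]
    refine Finset.sum_congr rfl fun d _ => ?_
    rw [mul_right_comm, coeff_mul_T', mul_comm, coeff_mul_C', mul_comm]
  rw [hv]
  exact Submodule.sum_mem _ fun i _ => Submodule.sum_mem _ fun d _ => Submodule.smul_mem _ _ ((hrow i 0).2 _)

/-- An integral basis adapted to the coefficients clears the negative powers on the right. -/
lemma mem_range_right {N : ℕ} (hN : ∀ j : ℤ, N ≤ j.natAbs → coefMat g j = 0) (E : GL (Fin n) R) (kn : Fin n → ℕ)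
    (hspan : ∀ j, coefFlag g N j ≤ Submodule.span K (rowK (K := K) E.val '' {l | kn l ≤ j})) (i l : Fin n) :
    (∑ a, g.val i a * C (algebraMap R K ((E⁻¹ : GL (Fin n) R).val a l))) * T (-((kn l : ℤ) - N - 1)) ∈
      (Polynomial.toLaurent (R := K)).range := by
  classical
  let EK : GL (Fin n) K := GeneralLinearGroup.map (algebraMap R K) E
  let Ei : Matrix (Fin n) (Fin n) K := (EK⁻¹ : GL (Fin n) K).val
  refine mem_range_toLaurent fun d hd => ?_
  rw [coeff_mul_T', AddMonoidAlgebra.coeff_sum, Finset.sum_apply']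
  simp only [coeff_mul_C']
  generalize hj₀ : d - -((kn l : ℤ) - N - 1) = j
  have hjl : j < (kn l : ℤ) - N - 1 := by omega
  have hsum : (coefMat g j i ᵥ* Ei) l = 0 := by
    by_cases hj : N ≤ j.natAbs
    · rw [hN j hj]
      exact congrFun (Matrix.zero_vecMul Ei) l
    · have hmem : coefMat g j i ∈ Submodule.span K (rowK (K := K) E.val '' {l | kn l ≤ (j + N + 1).toNat}) :=
        hspan _ (Submodule.subset_span ⟨j, i, by omega, rfl⟩)
      refine Submodule.span_induction (p := fun v _ => (v ᵥ* Ei) l = 0) ?_ ?_ ?_ ?_ hmem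
      · rintro _ ⟨a, ha, rfl⟩
        have h1 : EK.val * Ei = 1 := Units.mul_inv EK
        have : rowK (K := K) E.val a ᵥ* Ei = (1 : Matrix (Fin n) (Fin n) K) a := by
          rw [← h1]
          rfl
        rw [this]
        refine Matrix.one_apply_ne fun hal => ?_
        subst hal
        have ha' : kn a ≤ (j + N + 1).toNat := ha
        omega
      · simp
      · intro x y _ _ hx hy
        rw [Matrix.add_vecMul, Pi.add_apply, hx, hy, add_zero]
      · intro a x _ hx
        rw [Matrix.smul_vecMul, Pi.smul_apply, hx, smul_zero]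
  exact hsum

/-- Vectors mapping into a subring under a fixed linear form are a subspace. -/
lemma combo_mem_of_span {k L : Type u} [CommRing k] [CommRing L] (f : k →+* L) (S : Subring L) (hf : ∀ a, f a ∈ S)
    (t : L) (w : Fin n → L) {s : Set (Fin n → k)} (hs : ∀ v ∈ s, t * (∑ a, f (v a) * w a) ∈ S) {v : Fin n → k}
    (hv : v ∈ Submodule.span k s) : t * (∑ a, f (v a) * w a) ∈ S := by
  let W : Submodule k (Fin n → k) :=
    { carrier := {v | t * (∑ a, f (v a) * w a) ∈ S}
      zero_mem' := by simp
      add_mem' := fun {x y} hx hy => by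
        change t * (∑ a, f (x a + y a) * w a) ∈ S
        simp only [map_add, add_mul, Finset.sum_add_distrib, mul_add]
        exact S.add_mem hx hy
      smul_mem' := fun c x hx => by
        change t * (∑ a, f (c * x a) * w a) ∈ S
        simp only [map_mul, mul_assoc, ← Finset.mul_sum]
        rw [mul_left_comm]
        exact S.mul_mem (hf c) hx }
  exact (Submodule.span_le (p := W)).2 hs hv

/-- The rows of the adapted basis lie in the lattice. -/
lemma mem_range_left {N m : ℕ} (hg : ∀ j : ℤ, ∃ c : Matrix (Fin n) (Fin n) K[X],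
      (T j : LaurentPolynomial K) • (coefMat g j).map (⇑(C : K →+* LaurentPolynomial K)) =
        c.map (⇑(Polynomial.toLaurent (R := K))) * g.val) (i : Fin n) {v : Fin n → K} (hv : v ∈ coefFlag g N m) :
    T ((m : ℤ) - N - 1) * (∑ a, C (v a) * (g⁻¹ : GL (Fin n) _).val a i) ∈ (Polynomial.toLaurent (R := K)).range := by
  refine combo_mem_of_span (C : K →+* LaurentPolynomial K)
    (Polynomial.toLaurent (R := K)).range (fun a => RingHom.mem_range.2 ⟨Polynomial.C a, Polynomial.toLaurent_C a⟩)
    _ (fun a => (g⁻¹ : GL (Fin n) _).val a i) ?_ hv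
  rintro _ ⟨j, b, hj, rfl⟩
  obtain ⟨c, hc⟩ := hg j
  have hgi : g.val * (g⁻¹ : GL (Fin n) _).val = 1 := Units.mul_inv g
  have h1 := congrArg (fun M => (M * (g⁻¹ : GL (Fin n) _).val) b i) hc
  rw [Matrix.mul_assoc, hgi, Matrix.mul_one, Matrix.smul_mul, Matrix.smul_apply, Matrix.mul_apply, smul_eq_mul] at h1
  simp only [Matrix.map_apply] at h1
  rw [show (T ((m : ℤ) - N - 1) : LaurentPolynomial K) = T ((m : ℤ) - N - 1 - j) * T j by
    rw [← T_add, sub_add_cancel], mul_assoc, h1]
  exact Subring.mul_mem _ (T_mem_range_toLaurent (by omega)) (RingHom.mem_range_self _ _)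

/-- An invertible matrix with polynomial entries in both directions is polynomial. -/
lemma exists_poly_of_entries (q : GL (Fin n) (LaurentPolynomial K))
    (h₁ : ∀ i l, q.val i l ∈ (Polynomial.toLaurent (R := K)).range)
    (h₂ : ∀ i l, (q⁻¹ : GL (Fin n) _).val i l ∈ (Polynomial.toLaurent (R := K)).range) :
    ∃ Q : GL (Fin n) K[X], GeneralLinearGroup.map (Polynomial.toLaurent (R := K)) Q = q := by
  choose Q₁ hQ₁ using h₁
  choose Q₂ hQ₂ using h₂
  have e₁ : (Matrix.of Q₁).map Polynomial.toLaurent = q.val := Matrix.ext hQ₁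
  have e₂ : (Matrix.of Q₂).map Polynomial.toLaurent = (q⁻¹ : GL (Fin n) _).val := Matrix.ext hQ₂
  have hinj : Function.Injective fun M : Matrix (Fin n) (Fin n) K[X] => M.map Polynomial.toLaurent :=
    fun M M' e => Matrix.ext fun i j => Polynomial.toLaurent_injective (congrFun (congrFun e i) j)
  exact ⟨⟨Matrix.of Q₁, Matrix.of Q₂,
    hinj (by simp only [Matrix.map_mul, e₁, e₂, Units.mul_inv]; simp),
    hinj (by simp only [Matrix.map_mul, e₁, e₂, Units.inv_mul]; simp)⟩, Units.ext e₁⟩

variable (R) in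
/-- An equivariant invertible matrix of Laurent polynomials is polynomial times diagonal times integral. -/
theorem exists_factor (hg : ∀ j : ℤ, ∃ c : Matrix (Fin n) (Fin n) K[X],
      (T j : LaurentPolynomial K) • (coefMat g j).map (⇑(C : K →+* LaurentPolynomial K)) =
        c.map (⇑(Polynomial.toLaurent (R := K))) * g.val) :
    ∃ (Q : GL (Fin n) K[X]) (E : GL (Fin n) R) (k : Fin n → ℤ),
      g = GeneralLinearGroup.map (Polynomial.toLaurent (R := K)) Q * diagU (fun l => TU K (k l)) *
        GeneralLinearGroup.map ((C : K →+* LaurentPolynomial K).comp (algebraMap R K)) E := by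
  classical
  obtain ⟨N, hN⟩ := exists_bound g
  obtain ⟨E, kn, hrow, hspan⟩ :=
    exists_flag_basis (R := R) (coefFlag g N) (coefFlag_mono g N) (coefFlag_zero g hN) (coefFlag_top g hN)
  let k : Fin n → ℤ := fun l => (kn l : ℤ) - N - 1
  let φ : R →+* LaurentPolynomial K := (C : K →+* LaurentPolynomial K).comp (algebraMap R K)
  let D : GL (Fin n) (LaurentPolynomial K) := diagU (fun l => TU K (k l))
  have hDi : D⁻¹ = diagU (fun l => TU K (-k l)) := by
    rw [← map_inv]
    refine congrArg diagU (funext fun l => Units.ext ?_)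
    rfl
  obtain ⟨Q, hQ⟩ := exists_poly_of_entries (g * GeneralLinearGroup.map φ E⁻¹ * D⁻¹) (fun i l => by
    rw [Units.val_mul, hDi, diagU_val, Matrix.mul_diagonal, Units.val_mul, Matrix.mul_apply, TU_val]
    exact mem_range_right g hN E kn hspan i l) (fun l i => by
    rw [_root_.mul_inv_rev, _root_.mul_inv_rev, _root_.inv_inv, map_inv, _root_.inv_inv, Units.val_mul, diagU_val,
      Matrix.diagonal_mul, Units.val_mul, Matrix.mul_apply, TU_val]
    exact mem_range_left g hg i (hrow l))
  refine ⟨Q, E, k, ?_⟩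
  rw [hQ, map_inv, inv_mul_cancel_right, inv_mul_cancel_right]

end Groth.Agent.H14GL
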