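import Groth.Agent.H14GL.Main
import Groth.Agent.H14GL.ThetaLattice
import Mathlib.RingTheory.PolynomialAlgebra

/-!
# The charts of the punctured scaling stack
-/

set_option autoImplicit false
set_option linter.unusedVariables false
set_option backward.isDefEq.respectTransparency false
set_option backward.isDefEq.respectTransparency.types false

universe u

open LaurentPolynomial
open scoped Polynomial

noncomputable section

namespace Groth.Agent.H14GL

attribute [local instance] Polynomial.algebra

variable (R : Type u) [CommRing R] (K : Type u) [Field K] [Algebra R K]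

instance tower_laurent : IsScalarTower R R[X] (LaurentPolynomial R) :=
  IsScalarTower.of_algebraMap_eq fun r => (Polynomial.toLaurent_C r).symm

/-- Extension of coefficients on Laurent polynomials. -/
def ψx : LaurentPolynomial R →ₐ[R] LaurentPolynomial K :=
  { AddMonoidAlgebra.mapRingHom ℤ (algebraMap R K) with
    commutes' := fun r => AddMonoidAlgebra.mapRingHom_single (algebraMap R K) 0 r }

/-- The algebra structure by extension of coefficients. -/
@[reducible] def algLau : Algebra (LaurentPolynomial R) (LaurentPolynomial K) := (ψx R K).toRingHom.toAlgebra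

attribute [local instance] algLau

/-- Polynomials as Laurent polynomials. -/
def ψp : K[X] →ₐ[R] LaurentPolynomial K := (Polynomial.toLaurentAlg (R := K)).restrictScalars R

lemma ψx_C (r : R) : ψx R K (C r) = C (algebraMap R K r) := AddMonoidAlgebra.mapRingHom_single (algebraMap R K) 0 r

lemma ψx_T (d : ℤ) : ψx R K (T d) = T d :=
  (AddMonoidAlgebra.mapRingHom_single (algebraMap R K) d (1 : R)).trans (by rw [map_one]; rfl)

lemma ψx_ψp_comp : (ψx R K).comp (IsScalarTower.toAlgHom R R[X] (LaurentPolynomial R)) =
    (ψp R K).comp (IsScalarTower.toAlgHom R R[X] K[X]) := by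
  refine Polynomial.algHom_ext ?_
  change ψx R K (Polynomial.toLaurent Polynomial.X) = Polynomial.toLaurent (Polynomial.map (algebraMap R K) Polynomial.X)
  rw [Polynomial.toLaurent_X, Polynomial.map_X, Polynomial.toLaurent_X, ψx_T]

/-- Constants in Laurent polynomials. -/
def cAlg (A : Type u) [CommRing A] [Algebra R A] : A →ₐ[R] LaurentPolynomial A :=
  { (C : A →+* LaurentPolynomial A) with commutes' := fun r => (LaurentPolynomial.algebraMap_apply r).symm }

lemma cAlg_apply {A : Type u} [CommRing A] [Algebra R A] (a : A) : cAlg R A a = C a := rfl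

/-- Scaling of polynomials. -/
def θp : K[X] →ₐ[R] LaurentPolynomial K[X] :=
  (Polynomial.aeval (T 1 * C Polynomial.X : LaurentPolynomial K[X])).restrictScalars R

/-- Polynomial coefficients as Laurent coefficients. -/
def ιp : LaurentPolynomial K[X] →ₐ[R] LaurentPolynomial (LaurentPolynomial K) :=
  { AddMonoidAlgebra.mapRingHom ℤ (Polynomial.toLaurent (R := K)) with
    commutes' := fun r => by
      rw [LaurentPolynomial.algebraMap_apply, LaurentPolynomial.algebraMap_apply, LaurentPolynomial.algebraMap_apply]
      refine (AddMonoidAlgebra.mapRingHom_single (Polynomial.toLaurent (R := K)) 0 _).trans ?_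
      rw [show algebraMap R K[X] r = Polynomial.C (algebraMap R K r) from rfl, Polynomial.toLaurent_C]
      rfl }

lemma ιp_C (a : K[X]) : ιp R K (C a) = C (Polynomial.toLaurent a) := AddMonoidAlgebra.mapRingHom_single _ 0 a

lemma ιp_T (d : ℤ) : ιp R K (T d) = T d :=
  (AddMonoidAlgebra.mapRingHom_single (Polynomial.toLaurent (R := K)) d (1 : K[X])).trans (by rw [map_one]; rfl)

lemma coeff_ιp (p : LaurentPolynomial K[X]) (d : ℤ) : (ιp R K p).coeff d = Polynomial.toLaurent (p.coeff d) :=
  AddMonoidAlgebra.coeff_mapRingHom _ _ _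

/-- The powers of the scaled coordinate. -/
def scaleHom : Multiplicative ℤ →* LaurentPolynomial (LaurentPolynomial K) where
  toFun m := T m.toAdd * C (T m.toAdd)
  map_one' := by simp
  map_mul' a b := by rw [toAdd_mul, T_add, T_add, map_mul]; ring

/-- Scaling of Laurent polynomials. -/
def θl : LaurentPolynomial K →ₐ[R] LaurentPolynomial (LaurentPolynomial K) :=
  (AddMonoidAlgebra.lift K _ ℤ (scaleHom K)).restrictScalars R

lemma θl_single (d : ℤ) (a : K) : θl R K (C a * T d) = C (C a) * (T d * C (T d)) := by
  rw [← single_eq_C_mul_T, θl, AlgHom.restrictScalars_apply, AddMonoidAlgebra.lift_single]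
  rw [Algebra.smul_def, LaurentPolynomial.algebraMap_apply]
  rfl

lemma θl_T (d : ℤ) : θl R K (T d) = T d * C (T d) := by
  have h := θl_single R K d 1
  rwa [map_one, map_one, one_mul, one_mul] at h

lemma coeff_θl (p : LaurentPolynomial K) (d : ℤ) : (θl R K p).coeff d = C (p.coeff d) * T d := by
  induction p using LaurentPolynomial.induction_on' with
  | add p q hp hq =>
    rw [map_add, AddMonoidAlgebra.coeff_add, Finsupp.add_apply, hp, hq, AddMonoidAlgebra.coeff_add, Finsupp.add_apply,
      map_add, add_mul]
  | C_mul_T m a =>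
    rw [θl_single, coeff_mul_T' (C a) m d, show C (C a) * (T m * C (T m)) =
      C (C a * T m : LaurentPolynomial K) * T m by rw [map_mul]; ring, coeff_mul_T', C_apply, C_apply]
    by_cases hd : d = m
    · subst hd; simp
    · rw [if_neg (by omega), if_neg (by omega), map_zero, zero_mul]

lemma θl_comp_ψp : (θl R K).comp (ψp R K) = (ιp R K).comp (θp R K) := by
  refine AlgHom.ext fun p => ?_
  change θl R K (Polynomial.toLaurent p) = ιp R K (Polynomial.aeval (T 1 * C Polynomial.X : LaurentPolynomial K[X]) p)
  induction p using Polynomial.induction_on' with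
  | add p q hp hq => simp only [map_add, hp, hq]
  | monomial m a =>
    rw [Polynomial.toLaurent_C_mul_T, θl_single, Polynomial.aeval_monomial, map_mul, map_pow, map_mul, ιp_T, ιp_C,
      Polynomial.toLaurent_X, LaurentPolynomial.algebraMap_apply, ιp_C, show algebraMap K K[X] a = Polynomial.C a from rfl,
      Polynomial.toLaurent_C, mul_pow, ← map_pow, T_pow, T_pow, mul_one]

variable [IsDomain R] [IsDiscreteValuationRing R] [IsFractionRing R K] {ϖ : R} (hϖ : Irreducible ϖ)

include hϖ in
/-- Every element of the fraction field is integral up to a power of the uniformizer. -/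
lemma exists_mul_pow (z : K) : ∃ (m : ℕ) (a : R), z * algebraMap R K ϖ ^ m = algebraMap R K a := by
  obtain ⟨x, y, hy, rfl⟩ := IsFractionRing.div_surjective (A := R) z
  obtain ⟨m, v, rfl⟩ := IsDiscreteValuationRing.eq_unit_mul_pow_irreducible (nonZeroDivisors.ne_zero hy) hϖ
  refine ⟨m, x * (v⁻¹ : Rˣ), ?_⟩
  have hv : algebraMap R K (v : R) * algebraMap R K ((v⁻¹ : Rˣ) : R) = 1 := by
    rw [← map_mul, Units.mul_inv, map_one]
  have hp : algebraMap R K ϖ ≠ 0 := by simpa using hϖ.ne_zero
  rw [map_mul, map_mul, map_pow]
  field_simp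
  linear_combination algebraMap R K x * hv.symm

include hϖ in
lemma isLocalization_fraction : IsLocalization.Away ϖ K :=
  IsLocalization.Away.mk ϖ (by simpa using hϖ.ne_zero) (fun z => exists_mul_pow R K hϖ z)
    (fun a b e => ⟨0, by rw [IsFractionRing.injective R K e]⟩)

include hϖ in
lemma isLocalization_poly : IsLocalization.Away (Polynomial.C ϖ : R[X]) K[X] := by
  have := isLocalization_fraction R K hϖ
  have h := Polynomial.isLocalization (Submonoid.powers ϖ) K
  rwa [Submonoid.map_powers] at h

include hϖ in
lemma isLocalization_laurent : IsLocalization.Away (algebraMap R[X] (LaurentPolynomial R) (Polynomial.C ϖ))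
    (LaurentPolynomial K) := by
  rw [algebraMap_eq_toLaurent, Polynomial.toLaurent_C]
  refine IsLocalization.Away.mk (C ϖ) ?_ (fun z => ?_) (fun p q e => ⟨0, ?_⟩)
  · change IsUnit (ψx R K (C ϖ))
    rw [ψx_C]
    exact ((isUnit_iff_ne_zero (a := algebraMap R K ϖ)).2 (by simpa using hϖ.ne_zero)).map C
  · change ∃ (m : ℕ) (a : LaurentPolynomial R), z * ψx R K (C ϖ) ^ m = ψx R K a
    induction z using LaurentPolynomial.induction_on' with
    | add p q hp hq =>
      obtain ⟨m, a, ha⟩ := hp
      obtain ⟨l, b, hb⟩ := hq
      refine ⟨m + l, a * C ϖ ^ l + b * C ϖ ^ m, ?_⟩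
      rw [map_add, map_mul, map_mul, map_pow, map_pow, ← ha, ← hb, pow_add]
      ring
    | C_mul_T d z =>
      obtain ⟨m, a, ha⟩ := exists_mul_pow R K hϖ z
      refine ⟨m, C a * T d, ?_⟩
      rw [map_mul, ψx_C, ψx_C, ψx_T, ← ha, map_mul, map_pow]
      ring
  · change ψx R K p = ψx R K q at e
    have : p = q := LaurentPolynomial.ext fun d => IsFractionRing.injective R K (by
      have := congrArg (fun z : LaurentPolynomial K => z.coeff d) e
      rwa [show (ψx R K p).coeff d = algebraMap R K (p.coeff d) from AddMonoidAlgebra.coeff_mapRingHom _ _ _,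
        show (ψx R K q).coeff d = algebraMap R K (q.coeff d) from AddMonoidAlgebra.coeff_mapRingHom _ _ _] at this)
    rw [this]

end Groth.Agent.H14GL
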